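import Groth.Prelude.Def_Bivar
import Groth.Agent.CycLib28.PB.Ops.Laws
import Groth.Agent.CycLib28.PB.Square
import Groth.Agent.CycLib28.GraphPull
import Groth.Agent.CycLib28.GysinCommute

/-!
# Test schemes of operational classes, and extraction of a component of the total Chow group
-/

set_option autoImplicit false
set_option linter.style.haveILetI false
set_option backward.isDefEq.respectTransparency.types false

universe u

open AlgebraicGeometry CategoryTheory
open Groth.Agent.CycLib28 Groth.Agent.CycLib28.PB Groth.Agent.CycLib28.PB.Ops Groth.Agent.CycLim28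

namespace Groth.Agent.Bivar15

variable {X : Scheme.{u}} {δX : X → ℤ}

/-- Test schemes of a setup are setups. -/
theorem isSetup_osq (hX : Cyc.IsSetup X δX) (s : Bivar.OSq X δX) : Cyc.IsSetup s.Y s.δ :=
  haveI := s.lft
  isSetup_of_deltaCompat s.g hX s.compat

theorem lft_hom (s t : Bivar.OSq X δX) (h : t.Y ⟶ s.Y) (e : h ≫ s.g = t.g) :
    LocallyOfFiniteType h :=
  haveI := t.lft
  haveI : LocallyOfFiniteType (h ≫ s.g) := e ▸ inferInstance
  locallyOfFiniteType_of_comp h s.g

/-- A morphism of test schemes carries the induced dimension function. -/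
theorem compat_hom (s t : Bivar.OSq X δX) (h : t.Y ⟶ s.Y) (e : h ≫ s.g = t.g) :
    Cyc.DeltaCompat h t.δ s.δ :=
  haveI := s.lft
  haveI := t.lft
  haveI := lft_hom s t h e
  deltaCompat_cancel (f := 𝟙 X) (π := s.g) (π' := t.g) (f' := h) (by simpa using e) t.compat
    (Bivar.deltaCompat_id δX) s.compat

theorem delta_closed (s t : Bivar.OSq X δX) (i : t.Y ⟶ s.Y) [IsClosedImmersion i] (e : i ≫ s.g = t.g) :
    t.δ = fun d => s.δ (i d) :=
  GraphPull.deltaCompat_unique i (compat_hom s t i e) (deltaCompat_preimmersion i s.δ)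

open scoped Classical in
/-- The component of degree `l` of the value of an additive map on a class of degree `k`. -/
noncomputable def comp₀ {S T : Scheme.{u}} {δS : S → ℤ} {δT : T → ℤ} (F : CHT S δS →+ CHT T δT) (k l : ℤ) :
    ChowOps.CH S δS k →+ ChowOps.CH T δT l :=
  AddMonoidHom.mk' (fun x => F (DirectSum.of (fun k => ChowOps.CH S δS k) k x) l) fun x y => by
    simp only [map_add, DirectSum.add_apply]

theorem comp₀_cl {S T : Scheme.{u}} {δS : S → ℤ} {δT : T → ℤ} (F : CHT S δS →+ CHT T δT) {k l : ℤ}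
    {α : AlgebraicCycle S ℤ} (hα : α ∈ Cyc.Zk S δS k) {β : AlgebraicCycle T ℤ} (hβ : β ∈ Cyc.Zk T δT l)
    (h : F (cls δS k α) = cls δT l β) : comp₀ F k l (ChowOps.cl α hα) = ChowOps.cl β hβ := by
  rw [cls_eq hα, cls_eq hβ] at h
  show F (DirectSum.of (fun k => ChowOps.CH S δS k) k (ChowOps.cl α hα)) l = _
  rw [h, DirectSum.of_eq_same]

/-- Classes of cycles of equal total class are equal. -/
theorem cl_eq_of_cls_eq {S : Scheme.{u}} {δS : S → ℤ} {l : ℤ} {α β : AlgebraicCycle S ℤ}
    (hα : α ∈ Cyc.Zk S δS l) (hβ : β ∈ Cyc.Zk S δS l) (h : cls δS l α = cls δS l β) :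
    ChowOps.cl α hα = ChowOps.cl β hβ := by
  rw [cls_eq hα, cls_eq hβ] at h
  exact DirectSum.of_injective _ h

end Groth.Agent.Bivar15
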