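import Groth.Agent.Bivar15.Basic

/-!
# The operational first Chern class of an invertible module
-/

set_option autoImplicit false
set_option linter.style.haveILetI false
set_option backward.isDefEq.respectTransparency.types false

universe u

open AlgebraicGeometry CategoryTheory
open Groth.Agent.CycLib28 Groth.Agent.CycLib28.PB Groth.Agent.CycLib28.PB.Ops Groth.Agent.CycLim28

namespace Groth.Agent.Bivar15

variable {X : Scheme.{u}} {δX : X → ℤ}

/-- `c₁(g^* L) ∩ -` on a test scheme. -/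
noncomputable abbrev c1Op (L : X.Modules) (s : Bivar.OSq X δX) (k : ℤ) :
    ChowOps.CH s.Y s.δ k →+ ChowOps.CH s.Y s.δ (k - 1) :=
  comp₀ (c1 s.δ ((Scheme.Modules.pullback s.g).obj L)) k (k - 1)

theorem pullIso (L : X.Modules) (s t : Bivar.OSq X δX) (h : t.Y ⟶ s.Y) (e : h ≫ s.g = t.g) :
    Nonempty ((Scheme.Modules.pullback h).obj ((Scheme.Modules.pullback s.g).obj L) ≅
      (Scheme.Modules.pullback t.g).obj L) :=
  ⟨(Scheme.Modules.pullbackComp h s.g).app L ≪≫ (Scheme.Modules.pullbackCongr e).app L⟩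

theorem c1_pull_eq {L : X.Modules} (hX : Cyc.IsSetup X δX) (hL : PicF.IsInvertible L)
    (s t : Bivar.OSq X δX) (h : t.Y ⟶ s.Y) (e : h ≫ s.g = t.g) :
    c1 t.δ ((Scheme.Modules.pullback h).obj ((Scheme.Modules.pullback s.g).obj L)) =
      c1 t.δ ((Scheme.Modules.pullback t.g).obj L) := by
  haveI := (isSetup_osq hX t).1
  obtain ⟨i⟩ := pullIso L s t h e
  exact c1_iso (isSetup_osq hX t).2.2
    (PicLoc.isInvertible_pullback h (PicLoc.isInvertible_pullback s.g hL))
    (PicLoc.isInvertible_pullback t.g hL) i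

/-- The first Chern class as an operational class. -/
noncomputable def c1Cl (hX : Cyc.IsSetup X δX) (L : X.Modules) (hL : PicF.IsInvertible L) :
    Bivar.OpCl 1 X δX where
  op := c1Op L
  push s t h _ e k α hα := by
    haveI := (isSetup_osq hX s).1
    haveI := (isSetup_osq hX t).1
    have hs := (isSetup_osq hX s).2.2
    have ht := (isSetup_osq hX t).2.2
    have hc := compat_hom s t h e
    have hLt := PicLoc.isInvertible_pullback t.g hL
    have hLs := PicLoc.isInvertible_pullback s.g hL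
    obtain ⟨u, hu⟩ := exists_secs hLt
    obtain ⟨γ, hγ⟩ := exists_c1Cap_cycle ht hLt α u hu
    have hα' := c1Cap_mem hα hγ
    refine ⟨γ, hα', comp₀_cl _ hα hα' (c1_cls ht hLt hα hu hγ),
      comp₀_cl _ (map_mem_Zk h t.δ s.δ hα) (map_mem_Zk h t.δ s.δ hα') ?_⟩
    show c1 s.δ ((Scheme.Modules.pullback s.g).obj L) _ = _
    rw [← push_cls h ht hs hc hα, ← push_cls h ht hs hc hα', ← c1_cls ht hLt hα hu hγ,
      ← c1_pull_eq hX hL s t h e, push_c1 h ht hs hc hLs]
  pull s t h _ r hr e k α hα := by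
    haveI := (isSetup_osq hX s).1
    haveI := (isSetup_osq hX t).1
    haveI := lft_hom s t h e
    have hs := (isSetup_osq hX s).2.2
    have ht := (isSetup_osq hX t).2.2
    have hc := compat_hom s t h e
    have hcf := delta_of_hasRelDim h hr hc
    have hLs := PicLoc.isInvertible_pullback s.g hL
    obtain ⟨u, hu⟩ := exists_secs hLs
    obtain ⟨γ, hγ⟩ := exists_c1Cap_cycle hs hLs α u hu
    have hα' := c1Cap_mem hα hγ
    refine ⟨γ, hα', comp₀_cl _ hα hα' (c1_cls hs hLs hα hu hγ), fun α₁ h₁ hα₁ => ?_⟩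
    obtain ⟨β₁, hβ₁⟩ := exists_pullback_cycle h t.δ s.δ (r : ℤ) hcf γ
    have hm : β₁ ∈ Cyc.Zk t.Y t.δ (k + r - 1) := by
      have := PB.pullFun_mem_Zk h t.δ s.δ (r : ℤ) hα' hβ₁
      rwa [show k - 1 + (r : ℤ) = k + r - 1 by ring] at this
    refine ⟨β₁, hm, hβ₁, comp₀_cl _ hα₁ hm ?_⟩
    show c1 t.δ ((Scheme.Modules.pullback t.g).obj L) _ = _
    rw [← c1_pull_eq hX hL s t h e, ← pull_cls h ht hs hcf hα h₁, ← pull_c1 h ht hs hcf hLs,
      c1_cls hs hLs hα hu hγ, pull_cls h ht hs hcf hα' hβ₁, show k - 1 + (r : ℤ) = k + r - 1 by ring]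
  gysin s t i _ e N hN σ hσ k α hα := by
    haveI := (isSetup_osq hX s).1
    haveI := (isSetup_osq hX t).1
    have hs := (isSetup_osq hX s).2.2
    have ht := (isSetup_osq hX t).2.2
    have hd := delta_closed s t i e
    have hLs := PicLoc.isInvertible_pullback s.g hL
    have hLi := PicLoc.isInvertible_pullback i hLs
    obtain ⟨v, hv⟩ := exists_secs hLs
    obtain ⟨β, hβ⟩ := exists_c1Cap_cycle hs hLs α v hv
    have hα' := c1Cap_mem hα hβ
    refine ⟨β, hα', comp₀_cl _ hα hα' (c1_cls hs hLs hα hv hβ), fun w hw γ hγc hγ => ?_⟩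
    obtain ⟨ζ, hζ, hζk, -⟩ := exists_gysin_cycle hs hN σ i hσ (k - 1) β hα' w hw
    rw [← hd] at hζk
    refine ⟨ζ, hζk, hζ, comp₀_cl _ hγ hζk ?_⟩
    obtain ⟨u, hu⟩ := exists_secs hLi
    obtain ⟨ζ₂, hζ₂⟩ := exists_c1Cap_cycle ht hLi γ u hu
    show c1 t.δ ((Scheme.Modules.pullback t.g).obj L) _ = _
    rw [← c1_pull_eq hX hL s t i e, c1_cls ht hLi hγ hu hζ₂]
    refine (cls_congr ht hζk (c1Cap_mem hγ hζ₂) ?_).symm
    rw [show k - 1 - 1 = k - 2 by ring, hd]
    exact gysin_c1 hs hN hLs σ i hσ k α hα w hw v hv u hu β hβ _ (funext hγc) ζ ζ₂ hζ (by rw [hζ₂, hd])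

theorem isC1Class_c1Cl (hX : Cyc.IsSetup X δX) (L : X.Modules) (hL : PicF.IsInvertible L) :
    Bivar.IsC1Class L (c1Cl hX L hL) := by
  refine ⟨hL, fun s k α hα v hv γ hγc hγ => ?_⟩
  haveI := (isSetup_osq hX s).1
  exact comp₀_cl _ hα hγ
    (c1_cls (isSetup_osq hX s).2.2 (PicLoc.isInvertible_pullback s.g hL) hα hv hγc)

end Groth.Agent.Bivar15
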