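import Groth.Agent.CycLib28.PB.Ops.Defs

/-!
# Chern caps may be changed by rational equivalence
-/

set_option autoImplicit false
set_option linter.unusedSectionVars false
set_option linter.style.haveILetI false
set_option backward.isDefEq.respectTransparency.types false

universe u

open AlgebraicGeometry CategoryTheory CategoryTheory.Limits
open Groth.Agent.KRRPBLib Groth.Agent.PicLib Groth.Agent.CycLim28
open Groth.Agent.CycLib28 Groth.Agent.CycLib28.PB

namespace Groth.Agent.Bivar15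

theorem isChernCap_congr {X : Scheme.{u}} {δ : X → ℤ} (hX : Cyc.IsSetup X δ) {r : ℕ} {E : X.Modules}
    (hE : FlatMod.IsFinLocFreeOfRank r E) {P : Scheme.{u}} {p : P ⟶ X} {O1 : P.Modules}
    {q : (Scheme.Modules.pullback p).obj E ⟶ O1} (hP : KRR.IsProjBundle p E O1 q) [IsProper p] {δP : P → ℤ}
    (hPs : Cyc.IsSetup P δP) (hδ : Cyc.DeltaCompat p δP δ) {k : ℤ} {α : AlgebraicCycle X ℤ}
    {γ γ' : Fin (r + 1) → AlgebraicCycle X ℤ} (hγ : Cyc.IsChernCap p δ δP O1 r k α γ) (h0 : γ' 0 = α)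
    (hk : ∀ j : Fin (r + 1), γ' j ∈ Cyc.Zk X δ (k - ((j : ℕ) : ℤ)))
    (h : ∀ j : Fin (r + 1), Cyc.RatEquiv δ (k - ((j : ℕ) : ℤ)) (γ' j) (γ j)) :
    Cyc.IsChernCap p δ δP O1 r k α γ' := by
  haveI := hX.1
  haveI := hPs.1
  haveI := isQCoh_of_rank hE
  cases r with
  | zero =>
    haveI := isEmpty_of_rank_zero hE hP
    refine ⟨h0, hk, fun t _ β _ => ?_⟩
    rw [show β = 0 from DFunLike.ext _ _ fun y => isEmptyElim y]
    exact P1Inter.ratEquivZero_zero
  | succ m =>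
    have hinv := isInvertible_of_rankOne hP.invertible
    haveI : Flat p := flat_of_isProjBundle hE hP
    set t := flagSecs hE hP
    have ht : ∀ i ξ, t i ξ ≠ 0 := flagSecs_ne_zero hE hP
    obtain ⟨c, hc', -, hc0⟩ := exists_terms_of_isChernCap hE hP hPs.2.2 hδ hγ t ht
    choose d hd _hdk using exists_rel_terms hE hP hPs.2.2 hδ k γ' hk t ht
    refine isChernCap_of_terms hE hP hPs.2.2 hδ h0 hk t ht d hd (rel_transfer hPs.2.2 d c (fun i => ?_) hc0)
    obtain ⟨a, ha, hak⟩ := exists_pullback hE hP hPs.2.2 hδ _ (γ' (Fin.rev i)) (hk _)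
    obtain ⟨b, hb, hbk⟩ := exists_pullback hE hP hPs.2.2 hδ _ (γ (Fin.rev i)) (hγ.2.1 _)
    have hab : Cyc.RatEquiv δP (k - (((Fin.rev i : Fin (m + 2)) : ℕ) : ℤ) + (m : ℤ)) a b := by
      refine pullFun_ratEquivZero p hPs.2.2 hX.2.2 (m : ℤ) (delta_genInFibre hE hP hPs.2.2 hδ) _ _
        (h (Fin.rev i)) (a - b) ?_
      rw [show (⇑(γ' (Fin.rev i) - γ (Fin.rev i)) : X → ℤ) = ⇑(γ' (Fin.rev i)) - ⇑(γ (Fin.rev i)) from rfl,
        pullFun_sub_fun, ← ha, ← hb]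
      rfl
    have h' := pow_congr hPs.2.2 hinv hak hbk hab ht ht
      (γ := fun j => Cyc.c1PowFun δP O1 t j ⇑a) rfl (fun _ => rfl)
      (γ' := fun j => Cyc.c1PowFun δP O1 t j ⇑b) rfl (fun _ => rfl) i (d i) (c i)
      (by rw [hd, ha]) (by rw [hc', hb])
    rwa [show k - (((Fin.rev i : Fin (m + 2)) : ℕ) : ℤ) + (m : ℤ) - ((i : ℕ) : ℤ) = k - 1 by
      rw [Fin.val_rev]; omega] at h'

end Groth.Agent.Bivar15
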