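import Groth.Agent.Bivar15.C1
import Groth.Agent.Bivar15.ChernCongr
import Groth.Agent.CycLib28.PB.ChernGysin
import Groth.Prelude.Def_Bivar2

/-!
# The operational Chern classes of a locally free module
-/

set_option autoImplicit false
set_option linter.style.haveILetI false
set_option backward.isDefEq.respectTransparency.types false
set_option maxHeartbeats 1000000

universe u

open AlgebraicGeometry CategoryTheory CategoryTheory.Limits
open Groth.Agent.KRRPBLib Groth.Agent.CycLib28 Groth.Agent.CycLib28.PB Groth.Agent.CycLib28.PB.Ops Groth.Agent.CycLim28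

namespace Groth.Agent.Bivar15

variable {X : Scheme.{u}} {δX : X → ℤ}

/-- `c_j(g^* E) ∩ -` on a test scheme. -/
noncomputable abbrev chernOp (E : X.Modules) (r : ℕ) (j : Fin (r + 1)) (s : Bivar.OSq X δX) (k : ℤ) :
    ChowOps.CH s.Y s.δ k →+ ChowOps.CH s.Y s.δ (k - ((j : ℕ) : ℤ)) :=
  comp₀ (chern s.δ ((Scheme.Modules.pullback s.g).obj E) r j) k (k - ((j : ℕ) : ℤ))

theorem rank_pull {E : X.Modules} {r : ℕ} (hE : FlatMod.IsFinLocFreeOfRank r E) (s : Bivar.OSq X δX) :
    FlatMod.IsFinLocFreeOfRank r ((Scheme.Modules.pullback s.g).obj E) :=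
  Groth.Agent.VarietyLib.isFinLocFreeOfRank_pullback s.g hE

theorem chern_pull_eq {E : X.Modules} {r : ℕ} (hX : Cyc.IsSetup X δX) (hE : FlatMod.IsFinLocFreeOfRank r E)
    (j : Fin (r + 1)) (s t : Bivar.OSq X δX) (h : t.Y ⟶ s.Y) (e : h ≫ s.g = t.g) :
    chern t.δ ((Scheme.Modules.pullback h).obj ((Scheme.Modules.pullback s.g).obj E)) r j =
      chern t.δ ((Scheme.Modules.pullback t.g).obj E) r j := by
  obtain ⟨i⟩ := pullIso E s t h e
  exact chern_iso (isSetup_osq hX t) (rank_pull hE t)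
    (Groth.Agent.VarietyLib.isFinLocFreeOfRank_pullback h (rank_pull hE s)) i j

/-- The `j`-th Chern class as an operational class. -/
noncomputable def chernCl (hX : Cyc.IsSetup X δX) (E : X.Modules) (r : ℕ) (hE : FlatMod.IsFinLocFreeOfRank r E)
    (j : Fin (r + 1)) : Bivar.OpCl ((j : ℕ) : ℤ) X δX where
  op := chernOp E r j
  push s t h _ e k α hα := by
    haveI := (isSetup_osq hX s).1
    haveI := (isSetup_osq hX t).1
    have hs := isSetup_osq hX s
    have ht := isSetup_osq hX t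
    have hc := compat_hom s t h e
    obtain ⟨P, p, O1, q, δP, hP, hp, hPs, hδ⟩ := exists_projBundle_setup ht (rank_pull hE t)
    obtain ⟨γ, hγ⟩ := exists_chernCap ht (rank_pull hE t) hP hPs hδ α hα
    have h1 := chern_cls ht (rank_pull hE t) hP hPs hδ hα hγ j
    refine ⟨γ j, hγ.2.1 j, comp₀_cl _ hα (hγ.2.1 j) h1,
      comp₀_cl _ (map_mem_Zk h t.δ s.δ hα) (map_mem_Zk h t.δ s.δ (hγ.2.1 j)) ?_⟩
    show chern s.δ ((Scheme.Modules.pullback s.g).obj E) r j _ = _
    rw [← push_cls h ht.2.2 hs.2.2 hc hα, ← push_cls h ht.2.2 hs.2.2 hc (hγ.2.1 j), ← h1,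
      ← chern_pull_eq hX hE j s t h e, push_chern h ht hs hc (rank_pull hE s)]
  pull s t h _ r' hr e k α hα := by
    haveI := (isSetup_osq hX s).1
    haveI := (isSetup_osq hX t).1
    haveI := lft_hom s t h e
    have hs := isSetup_osq hX s
    have ht := isSetup_osq hX t
    have hc := compat_hom s t h e
    have hcf := delta_of_hasRelDim h hr hc
    obtain ⟨P, p, O1, q, δP, hP, hp, hPs, hδ⟩ := exists_projBundle_setup hs (rank_pull hE s)
    obtain ⟨γ, hγ⟩ := exists_chernCap hs (rank_pull hE s) hP hPs hδ α hα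
    have h1 := chern_cls hs (rank_pull hE s) hP hPs hδ hα hγ j
    refine ⟨γ j, hγ.2.1 j, comp₀_cl _ hα (hγ.2.1 j) h1, fun α₁ h₁ hα₁ => ?_⟩
    obtain ⟨β₁, hβ₁⟩ := exists_pullback_cycle h t.δ s.δ (r' : ℤ) hcf (γ j)
    have hm : β₁ ∈ Cyc.Zk t.Y t.δ (k + r' - ((j : ℕ) : ℤ)) := by
      have := PB.pullFun_mem_Zk h t.δ s.δ (r' : ℤ) (hγ.2.1 j) hβ₁
      rwa [show k - ((j : ℕ) : ℤ) + (r' : ℤ) = k + r' - ((j : ℕ) : ℤ) by ring] at this
    refine ⟨β₁, hm, hβ₁, comp₀_cl _ hα₁ hm ?_⟩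
    show chern t.δ ((Scheme.Modules.pullback t.g).obj E) r j _ = _
    rw [← chern_pull_eq hX hE j s t h e, ← pull_cls h ht.2.2 hs.2.2 hcf hα h₁,
      ← pull_chern h ht hs r' hr hc (rank_pull hE s), h1, pull_cls h ht.2.2 hs.2.2 hcf (hγ.2.1 j) hβ₁,
      show k - ((j : ℕ) : ℤ) + (r' : ℤ) = k + r' - ((j : ℕ) : ℤ) by ring]
  gysin s t i _ e N hN σ hσ k α hα := by
    haveI := (isSetup_osq hX s).1
    haveI := (isSetup_osq hX t).1
    have hs := isSetup_osq hX s
    have ht := isSetup_osq hX t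
    have hd := delta_closed s t i e
    obtain ⟨P, p, O1, q, δP, hP, hp, hPs, hδ⟩ := exists_projBundle_setup hs (rank_pull hE s)
    obtain ⟨γ, hγ⟩ := exists_chernCap hs (rank_pull hE s) hP hPs hδ α hα
    refine ⟨γ j, hγ.2.1 j, comp₀_cl _ hα (hγ.2.1 j) (chern_cls hs (rank_pull hE s) hP hPs hδ hα hγ j),
      fun w hw αD hαD hαDk => ?_⟩
    choose ζ hζ hζk _hm using fun l : Fin (r + 1) =>
      exists_gysin_cycle hs.2.2 hN σ i hσ _ (γ l) (hγ.2.1 l) w hw
    have hsq : IsPullback (pullback.fst p i) (pullback.snd p i) p i := IsPullback.of_hasPullback p i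
    have hP' := isProjBundle_baseChange q hP hsq
    haveI : IsClosedImmersion (pullback.fst p i) :=
      MorphismProperty.of_isPullback (P := @IsClosedImmersion) hsq.flip inferInstance
    haveI : IsProper (pullback.snd p i) := MorphismProperty.of_isPullback (P := @IsProper) hsq inferInstance
    have hπ' : Cyc.DeltaCompat (pullback.snd p i) (fun y => δP (pullback.fst p i y)) t.δ :=
      hd ▸ deltaCompat_square (pullback.fst p i) i (pullback.snd p i) p hsq.w.symm hδ
    have hPD := isSetup_of_deltaCompat (pullback.snd p i) ht hπ'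
    have hEi := Groth.Agent.VarietyLib.isFinLocFreeOfRank_pullback i (rank_pull hE s)
    obtain ⟨γ', hγ'⟩ := exists_chernCap ht hEi hP' hPD hπ' αD hαDk
    have hm : ζ j ∈ Cyc.Zk t.Y t.δ (k - 1 - ((j : ℕ) : ℤ)) := by
      rw [hd, show k - 1 - ((j : ℕ) : ℤ) = k - ((j : ℕ) : ℤ) - 1 by ring]
      exact hζk j
    refine ⟨ζ j, hm, hζ j, comp₀_cl _ hαDk hm ?_⟩
    show chern t.δ ((Scheme.Modules.pullback t.g).obj E) r j _ = _
    rw [← chern_pull_eq hX hE j s t i e, chern_cls ht hEi hP' hPD hπ' hαDk hγ' j]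
    refine (cls_congr ht.2.2 hm (hγ'.2.1 j) ?_).symm
    rw [hd] at hγ' ⊢
    exact chernCap_gysin hs (rank_pull hE s) hP hPs hδ hN σ i hσ hsq w hw hγ hαD hγ' ζ hζ j

/-- The family of Chern classes, zero above the rank. -/
noncomputable def chernFam (hX : Cyc.IsSetup X δX) (E : X.Modules) (r : ℕ) (hE : FlatMod.IsFinLocFreeOfRank r E)
    (j : ℕ) : Bivar.OpCl (j : ℤ) X δX :=
  if h : j < r + 1 then chernCl hX E r hE ⟨j, h⟩ else 0

theorem isChernClasses_chernFam (hX : Cyc.IsSetup X δX) (E : X.Modules) (r : ℕ)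
    (hE : FlatMod.IsFinLocFreeOfRank r E) : Bivar.IsChernClasses E r (chernFam hX E r hE) := by
  refine ⟨hE, ?_, fun j hj => dif_neg (by omega), ?_⟩
  · rw [chernFam, dif_pos (Nat.succ_pos r)]
    refine Bivar.OpCl.ext (funext fun s => funext fun k => AddMonoidHom.ext fun x => ?_)
    obtain ⟨α, hα, rfl⟩ := Bivar.exists_rep x
    haveI := (isSetup_osq hX s).1
    have hα' : α ∈ Cyc.Zk s.Y s.δ (k - 0) := by rwa [sub_zero]
    show comp₀ (chern s.δ ((Scheme.Modules.pullback s.g).obj E) r 0) k (k - 0) _ =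
      Bivar.chCast s.Y s.δ (sub_zero k).symm (ChowOps.cl α hα)
    rw [Bivar.chCast_cl]
    refine comp₀_cl _ hα hα' ?_
    show chern s.δ ((Scheme.Modules.pullback s.g).obj E) r 0 _ = _
    rw [chern_zero (isSetup_osq hX s) (rank_pull hE s), sub_zero]
    rfl
  · intro s P π O1 q hP δP hδ k α hα ζ h0 hζ hop
    have hs := isSetup_osq hX s
    haveI := hs.1
    have hE' := rank_pull hE s
    obtain ⟨P₀, p₀, O₀, q₀, δ₀, hP₀, hp₀, hPs₀, hδ₀⟩ := exists_projBundle_setup hs hE'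
    obtain ⟨g, hg, hgp, -⟩ := exists_bundle_iso hP₀ hP
    haveI : IsProper π := by rw [← hgp]; exact MorphismProperty.comp_mem _ _ _ inferInstance hp₀
    have hPs := isSetup_of_deltaCompat π hs hδ
    obtain ⟨γ, hγ⟩ := exists_chernCap hs hE' hP hPs hδ α hα
    refine isChernCap_congr hs hE' hP hPs hδ hγ h0 hζ fun l => ?_
    refine (cl_eq_iff hs.2.2 (hζ l) (hγ.2.1 l)).1 ?_
    rw [← hop l, chernFam, dif_pos l.isLt]
    exact comp₀_cl _ hα (hγ.2.1 l) (chern_cls hs hE' hP hPs hδ hα hγ l)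

end Groth.Agent.Bivar15
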