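import Groth.Agent.Bivar15.C1
import Groth.Agent.CycLib28.PB.GysinSquare
import Groth.Agent.CycLib28.GysinCommute
import Groth.Prelude.Def_Bivar2

/-!
# The bivariant class of flat pullback
-/

set_option autoImplicit false
set_option linter.style.haveILetI false
set_option backward.isDefEq.respectTransparency.types false
set_option maxHeartbeats 1000000

universe u

open AlgebraicGeometry CategoryTheory CategoryTheory.Limits
open Groth.Agent.CycLib28 Groth.Agent.CycLib28.PB Groth.Agent.CycLib28.PB.Ops Groth.Agent.CycLim28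

namespace Groth.Agent.Bivar15

variable {X Y : Scheme.{u}} {δX : X → ℤ} {δY : Y → ℤ} {f : X ⟶ Y} [Flat f] [LocallyOfFiniteType f] {r : ℕ}

theorem fp_facts (hY : Cyc.IsSetup Y δY) (hδ : Cyc.DeltaCompat f δX δY) (hr : Cyc.HasRelDim f r)
    (s : Bivar.Sq f δX δY) :
    Cyc.IsSetup s.Y' s.δY' ∧ Cyc.IsSetup s.X' s.δX' ∧ Flat s.f' ∧ LocallyOfFiniteType s.f' ∧
      Cyc.HasRelDim s.f' r ∧ Cyc.DeltaCompat s.f' s.δX' s.δY' ∧
        ∀ x, GenInFibre s.f' x → s.δX' x = s.δY' (s.f' x) + (r : ℤ) := by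
  haveI := s.lft
  haveI : LocallyOfFiniteType s.g' := MorphismProperty.of_isPullback s.isPullback inferInstance
  haveI : LocallyOfFiniteType s.f' := MorphismProperty.of_isPullback s.isPullback.flip inferInstance
  have h1 : Cyc.DeltaCompat s.f' s.δX' s.δY' := deltaCompat_cancel s.isPullback.w s.compatX hδ s.compatY
  have h2 : Cyc.HasRelDim s.f' r := hasRelDim_of_isPullback s.isPullback hr
  exact ⟨isSetup_of_deltaCompat s.g hY s.compatY, isSetup_of_deltaCompat s.g' (isSetup_of_deltaCompat f hY hδ) s.compatX,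
    MorphismProperty.of_isPullback s.isPullback.flip inferInstance, inferInstance, h2, h1,
    delta_of_hasRelDim s.f' h2 h1⟩

theorem exists_isFlatPullClass (hY : Cyc.IsSetup Y δY) (hδ : Cyc.DeltaCompat f δX δY) (hr : Cyc.HasRelDim f r) :
    ∃ c : Bivar.Cl (-(r : ℤ)) f δX δY, Bivar.IsFlatPullClass f r c := by
  have hop : ∀ (s : Bivar.Sq f δX δY) (k : ℤ), ∃ F : ChowOps.CH s.Y' s.δY' k →+ ChowOps.CH s.X' s.δX' (k - -(r : ℤ)),
      ∀ (α : AlgebraicCycle s.Y' ℤ) (hα : α ∈ Cyc.Zk s.Y' s.δY' k) (α₁ : AlgebraicCycle s.X' ℤ)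
        (hα₁ : α₁ ∈ Cyc.Zk s.X' s.δX' (k - -(r : ℤ))),
        ⇑α₁ = Cyc.pullFun s.f' s.δX' s.δY' (r : ℤ) ⇑α → F (ChowOps.cl α hα) = ChowOps.cl α₁ hα₁ := by
    intro s k
    obtain ⟨hsY, hsX, hfl, hlft, -, -, hc⟩ := fp_facts hY hδ hr s
    haveI := hsY.1
    haveI := hsX.1
    refine ⟨comp₀ (pull s.f' s.δX' s.δY' (r : ℤ)) k (k - -(r : ℤ)), fun α hα α₁ hα₁ h => comp₀_cl _ hα hα₁ ?_⟩
    rw [pull_cls s.f' hsX.2.2 hsY.2.2 hc hα h, sub_neg_eq_add]
  choose F hF using hop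
  refine ⟨{ op := F, push := ?_, pull := ?_, gysin := ?_ }, inferInstance, inferInstance, hr, hδ,
    fun s k α hα α₁ h hα₁ => hF s k α hα α₁ hα₁ h⟩
  · intro s t h _ h' _ w₁ w₂ w₃ k α hα
    obtain ⟨hsY, hsX, hsfl, hslft, -, -, hsc⟩ := fp_facts hY hδ hr s
    obtain ⟨htY, htX, htfl, htlft, -, -, htc⟩ := fp_facts hY hδ hr t
    haveI := hsY.1
    haveI := hsX.1
    haveI := htY.1
    haveI := htX.1
    haveI := s.lft
    haveI := t.lft
    haveI : LocallyOfFiniteType s.g' := MorphismProperty.of_isPullback s.isPullback inferInstance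
    haveI : LocallyOfFiniteType t.g' := MorphismProperty.of_isPullback t.isPullback inferInstance
    have hsq : IsPullback t.f' h' h s.f' :=
      IsPullback.of_bot (by rw [w₁, w₃]; exact t.isPullback) w₂.symm s.isPullback
    have hc : Cyc.DeltaCompat h t.δY' s.δY' :=
      deltaCompat_cancel (f := 𝟙 Y) (π := s.g) (π' := t.g) (f' := h) (by simpa using w₁) t.compatY
        (Bivar.deltaCompat_id δY) s.compatY
    have hc' : Cyc.DeltaCompat h' t.δX' s.δX' :=
      deltaCompat_cancel (f := 𝟙 X) (π := s.g') (π' := t.g') (f' := h') (by simpa using w₃) t.compatX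
        (Bivar.deltaCompat_id δX) s.compatX
    obtain ⟨β, hβ⟩ := exists_pullback_cycle t.f' t.δX' t.δY' (r : ℤ) htc α
    have hβk : β ∈ Cyc.Zk t.X' t.δX' (k - -(r : ℤ)) := by
      rw [sub_neg_eq_add]; exact PB.pullFun_mem_Zk t.f' t.δX' t.δY' (r : ℤ) hα hβ
    refine ⟨β, hβk, hF t k α hα β hβk hβ,
      hF s k _ _ _ (Bivar.cycMap_mem_Zk h' t.δX' s.δX' _ hβk) ?_⟩
    exact (pullFun_map_square hsq.flip htY hsY hsX hc hc' (r : ℤ) hsc htc k α hα β hβ).symm
  · intro s t h _ h' _ n hn hn' w₁ w₂ w₃ k α hα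
    obtain ⟨hsY, hsX, hsfl, hslft, -, -, hsc⟩ := fp_facts hY hδ hr s
    obtain ⟨htY, htX, htfl, htlft, -, -, htc⟩ := fp_facts hY hδ hr t
    haveI := hsY.1
    haveI := hsX.1
    haveI := htY.1
    haveI := htX.1
    haveI := s.lft
    haveI := t.lft
    haveI : LocallyOfFiniteType s.g' := MorphismProperty.of_isPullback s.isPullback inferInstance
    haveI : LocallyOfFiniteType t.g' := MorphismProperty.of_isPullback t.isPullback inferInstance
    haveI : LocallyOfFiniteType (h ≫ s.g) := w₁ ▸ inferInstance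
    haveI := locallyOfFiniteType_of_comp h s.g
    haveI : LocallyOfFiniteType (h' ≫ s.g') := w₃ ▸ inferInstance
    haveI := locallyOfFiniteType_of_comp h' s.g'
    have hc : Cyc.DeltaCompat h t.δY' s.δY' :=
      deltaCompat_cancel (f := 𝟙 Y) (π := s.g) (π' := t.g) (f' := h) (by simpa using w₁) t.compatY
        (Bivar.deltaCompat_id δY) s.compatY
    have hc' : Cyc.DeltaCompat h' t.δX' s.δX' :=
      deltaCompat_cancel (f := 𝟙 X) (π := s.g') (π' := t.g') (f' := h') (by simpa using w₃) t.compatX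
        (Bivar.deltaCompat_id δX) s.compatX
    obtain ⟨β, hβ⟩ := exists_pullback_cycle s.f' s.δX' s.δY' (r : ℤ) hsc α
    have hβk : β ∈ Cyc.Zk s.X' s.δX' (k - -(r : ℤ)) := by
      rw [sub_neg_eq_add]; exact PB.pullFun_mem_Zk s.f' s.δX' s.δY' (r : ℤ) hα hβ
    refine ⟨β, hβk, hF s k α hα β hβk hβ, fun α₁ hα₁c hα₁ => ?_⟩
    obtain ⟨β₁, hβ₁⟩ := exists_pullback_cycle h' t.δX' s.δX' (n : ℤ) (delta_of_hasRelDim h' hn' hc') β
    have hm : β₁ ∈ Cyc.Zk t.X' t.δX' (k + n - -(r : ℤ)) := by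
      have := PB.pullFun_mem_Zk h' t.δX' s.δX' (n : ℤ) hβk hβ₁
      rwa [show k - -(r : ℤ) + (n : ℤ) = k + n - -(r : ℤ) by ring] at this
    refine ⟨β₁, hm, hβ₁, hF t (k + n) α₁ hα₁ β₁ hm ?_⟩
    rw [hβ₁, hβ, hα₁c,
      (pullFun_comp h' s.f' t.δX' s.δX' s.δY' (n : ℤ) (r : ℤ) (delta_of_hasRelDim h' hn' hc') hsc ⇑α).2,
      (pullFun_comp t.f' h t.δX' t.δY' s.δY' (r : ℤ) (n : ℤ) htc (delta_of_hasRelDim h hn hc) ⇑α).2,
      add_comm (r : ℤ)]
    exact congrArg (fun m => Cyc.pullFun m t.δX' s.δY' ((n : ℤ) + r) ⇑α) w₂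
  · intro s t g _ j _ w₁ w₂ w₃ M hM μ hμ ν hν k α hα
    obtain ⟨hsY, hsX, hsfl, hslft, -, -, hsc⟩ := fp_facts hY hδ hr s
    obtain ⟨htY, htX, htfl, htlft, -, -, htc⟩ := fp_facts hY hδ hr t
    haveI := hsY.1
    haveI := hsX.1
    haveI := htY.1
    haveI := htX.1
    haveI := s.lft
    haveI := t.lft
    haveI : LocallyOfFiniteType s.g' := MorphismProperty.of_isPullback s.isPullback inferInstance
    haveI : LocallyOfFiniteType t.g' := MorphismProperty.of_isPullback t.isPullback inferInstance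
    have hdY : t.δY' = fun d => s.δY' (g d) :=
      GraphPull.deltaCompat_unique g
        (deltaCompat_cancel (f := 𝟙 Y) (π := s.g) (π' := t.g) (f' := g) (by simpa using w₁) t.compatY
          (Bivar.deltaCompat_id δY) s.compatY)
        (deltaCompat_preimmersion g s.δY')
    have hdX : t.δX' = fun d => s.δX' (j d) :=
      GraphPull.deltaCompat_unique j
        (deltaCompat_cancel (f := 𝟙 X) (π := s.g') (π' := t.g') (f' := j) (by simpa using w₃) t.compatX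
          (Bivar.deltaCompat_id δX) s.compatX)
        (deltaCompat_preimmersion j s.δX')
    have hsq : IsPullback j t.f' s.f' g :=
      (IsPullback.of_bot (by rw [w₁, w₃]; exact t.isPullback) w₂.symm s.isPullback).flip
    have hν' : Cyc.IsZeroSchemeOf (pullback.fst s.f' g) ((Scheme.Modules.pullback s.f').obj M) ν := by
      rw [← hsq.isoPullback_inv_fst]
      exact isZeroSchemeOf_iso_comp hsq.isoPullback.inv _ hν
    obtain ⟨β, hβ⟩ := exists_pullback_cycle s.f' s.δX' s.δY' (r : ℤ) hsc α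
    have hβk : β ∈ Cyc.Zk s.X' s.δX' (k - -(r : ℤ)) := by
      rw [sub_neg_eq_add]; exact PB.pullFun_mem_Zk s.f' s.δX' s.δY' (r : ℤ) hα hβ
    refine ⟨β, hβk, hF s k α hα β hβk hβ, fun w hw γ hγc hγ w' hw' => ?_⟩
    have hfM := PicLoc.isInvertible_pullback s.f' hM
    obtain ⟨ζ, hζc, hζk, -⟩ := exists_gysin_cycle hsX.2.2 hfM ν j hν _ β hβk w' hw'
    rw [← hdX, show k - -(r : ℤ) - 1 = k - 1 - -(r : ℤ) by ring] at hζk
    refine ⟨ζ, hζk, hζc, ?_⟩
    obtain ⟨γ₁, hγ₁⟩ := exists_pullback_cycle t.f' t.δX' t.δY' (r : ℤ) htc γ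
    have hγ₁k : γ₁ ∈ Cyc.Zk t.X' t.δX' (k - 1 - -(r : ℤ)) := by
      rw [sub_neg_eq_add]; exact PB.pullFun_mem_Zk t.f' t.δX' t.δY' (r : ℤ) hγ hγ₁
    rw [hF t (k - 1) γ hγ γ₁ hγ₁k hγ₁]
    refine (cl_eq_iff htX.2.2 hγ₁k hζk).2 (ratEquiv_symm htX.2.2 ?_)
    rw [hdX, sub_neg_eq_add]
    refine gysin_pullFun_square hsY.2.2 hsX.2.2 s.f' (r : ℤ) hsc hM μ g hμ hsq ν hν' (k - 1) α
      (by rwa [sub_add_cancel]) w hw w' hw' ζ γ₁ (fun z => by rw [hζc, hβ]) ?_
    rw [hγ₁, hdX, hdY]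
    exact congrArg _ (funext hγc)

end Groth.Agent.Bivar15
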