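import Groth.Agent.CycLib28.PB.ChernLine
import Groth.Agent.CycLib28.PB.GysinSquare

/-!
# Gysin coefficient functions do not see isomorphisms of modules
-/

set_option autoImplicit false
set_option linter.style.haveILetI false
set_option backward.isDefEq.respectTransparency.types false

universe u

open AlgebraicGeometry CategoryTheory
open Groth.Agent Groth.Agent.CycLib28 Groth.Agent.CycLib28.PB Groth.Agent.CycLim28 Groth.Agent.Coherent Groth.Agent.PicLib

namespace Groth.Agent.Bivar15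

variable {X : Scheme.{u}} {L M : X.Modules}

/-- The map on stalks of a morphism of modules. -/
noncomputable abbrev sMap (φ : L ⟶ M) (ξ : X) : L.presheaf.stalk ξ →ₗ[X.presheaf.stalk ξ] M.presheaf.stalk ξ :=
  Algz.stalkMapₗ φ ξ

theorem sMap_germ (φ : L ⟶ M) {W : X.Opens} {ξ : X} (hξ : ξ ∈ W) (s : Γ(L, W)) :
    sMap φ ξ (L.presheaf.germ W ξ hξ s) = M.presheaf.germ W ξ hξ (φ.app W s) :=
  TopCat.Presheaf.stalkFunctor_map_germ_apply W ξ hξ φ.mapPresheaf s

theorem sMap_comp {N : X.Modules} (φ : L ⟶ M) (ψ : M ⟶ N) (ξ : X) (m : L.presheaf.stalk ξ) :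
    sMap ψ ξ (sMap φ ξ m) = sMap (φ ≫ ψ) ξ m :=
  (LinearMap.congr_fun (congrArg ModuleCat.Hom.hom ((DerSch.stalkFunctor X ξ).map_comp φ ψ)) m).symm

theorem sMap_id (ξ : X) (m : L.presheaf.stalk ξ) : sMap (𝟙 L) ξ m = m :=
  LinearMap.congr_fun (congrArg ModuleCat.Hom.hom ((DerSch.stalkFunctor X ξ).map_id L)) m

/-- The map on fibres of a morphism of modules. -/
noncomputable def secMap (φ : L ⟶ M) (ξ : X) : Cyc.secFibre L ξ →ₗ[X.presheaf.stalk ξ] Cyc.secFibre M ξ :=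
  Submodule.mapQ _ _ (sMap φ ξ)
    (Submodule.map_le_iff_le_comap.1 (le_of_eq_of_le (Submodule.map_smul'' _ _ _) (smul_mono_right _ le_top)))

theorem secMap_mk (φ : L ⟶ M) (ξ : X) (m : L.presheaf.stalk ξ) :
    secMap φ ξ (Submodule.Quotient.mk m) =
      Submodule.Quotient.mk (sMap φ ξ m) := rfl

theorem secMap_hom_inv (e : L ≅ M) (ξ : X) (s : Cyc.secFibre L ξ) :
    secMap e.inv ξ (secMap e.hom ξ s) = s := by
  obtain ⟨m, rfl⟩ := Submodule.Quotient.mk_surjective _ s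
  rw [secMap_mk, secMap_mk]
  rw [sMap_comp, e.hom_inv_id, sMap_id]

theorem secMap_ne_zero (e : L ≅ M) {ξ : X} {s : Cyc.secFibre L ξ} (h : s ≠ 0) : secMap e.hom ξ s ≠ 0 :=
  fun h0 => h (by rw [← secMap_hom_inv e ξ s, h0, map_zero])

theorem secMap_eq_zero_iff (e : L ≅ M) {ξ : X} (s : Cyc.secFibre L ξ) : secMap e.hom ξ s = 0 ↔ s = 0 :=
  ⟨fun h => by_contra fun h' => secMap_ne_zero e h' h, fun h => by rw [h, map_zero]⟩

theorem secDivFun_secMap [IsLocallyNoetherian X] {δ : X → ℤ} (hδ : Cyc.IsDimFun X δ) (hL : PicF.IsInvertible L)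
    (hM : PicF.IsInvertible M) (e : L ≅ M) {ξ : X} {s : Cyc.secFibre L ξ} (hs : s ≠ 0) (x : X) :
    Cyc.secDivFun δ M ξ (secMap e.hom ξ s) x = Cyc.secDivFun δ L ξ s x := by
  simp only [Cyc.secDivFun]
  split_ifs with h
  · obtain ⟨V, hxV, f, hf⟩ := PicLib.exists_isGen hL x
    have hξV : ξ ∈ V := h.1.mem_open V.2 hxV
    obtain ⟨φ, rfl⟩ := CycLib28.exists_rep hf hξV s
    have hφ : (X.residue ξ).hom φ ≠ 0 := fun h0 => hs ((mk_eq_zero_iff_gen hf hξV _).2 h0)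
    rw [secMap_mk, map_smul, sMap_germ e.hom hξV f,
      secOrdAt_gen hδ hM h.1 h.2 (isGen_app_iso e hf) hxV hξV φ hφ,
      secOrdAt_gen hδ hL h.1 h.2 hf hxV hξV φ hφ]
  · rfl

theorem gysinChoice_secMap (e : L ≅ M) (σ : L.presheaf.obj (Opposite.op ⊤))
    (w : (ξ : X) → Cyc.secFibre L ξ) (ξ : X) :
    Cyc.gysinChoice M (e.hom.app ⊤ σ) (fun η => secMap e.hom η (w η)) ξ =
      secMap e.hom ξ (Cyc.gysinChoice L σ w ξ) := by
  have h : secMap e.hom ξ (Submodule.Quotient.mk ((L.presheaf.germ ⊤ ξ trivial) σ)) =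
      Submodule.Quotient.mk ((M.presheaf.germ ⊤ ξ trivial) (e.hom.app ⊤ σ)) := by
    rw [secMap_mk, sMap_germ]
  simp only [Cyc.gysinChoice]
  split_ifs with h1 h2 h2
  · exact h.symm
  · exact absurd (h ▸ by rw [not_not.1 h2, map_zero] :
      Submodule.Quotient.mk ((M.presheaf.germ ⊤ ξ trivial) (e.hom.app ⊤ σ)) = (0 : Cyc.secFibre M ξ)) h1
  · exact absurd (h ▸ secMap_ne_zero e h2) h1
  · rfl

/-- Gysin coefficients are unchanged under an isomorphism of the module. -/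
theorem c1CapFun_gysin_iso [IsLocallyNoetherian X] {δ : X → ℤ} (hδ : Cyc.IsDimFun X δ) (hL : PicF.IsInvertible L)
    (hM : PicF.IsInvertible M) (e : L ≅ M) (σ : L.presheaf.obj (Opposite.op ⊤))
    (w : (ξ : X) → Cyc.secFibre L ξ) (hw : ∀ ξ, w ξ ≠ 0) (α : X → ℤ) :
    Cyc.c1CapFun δ M α (Cyc.gysinChoice M (e.hom.app ⊤ σ) (fun η => secMap e.hom η (w η))) =
      Cyc.c1CapFun δ L α (Cyc.gysinChoice L σ w) := by
  refine funext fun x => finsum_congr fun ξ => congrArg (α ξ * ·) ?_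
  rw [gysinChoice_secMap, secDivFun_secMap hδ hL hM e (gysinChoice_ne_zero L σ w hw ξ)]

/-- Isomorphic sections have the same zero scheme. -/
theorem isZeroSchemeOf_app_iso {D : Scheme.{u}} (i : D ⟶ X) (e : L ≅ M) {σ : L.presheaf.obj (Opposite.op ⊤)}
    (h : Cyc.IsZeroSchemeOf i L σ) : Cyc.IsZeroSchemeOf i M (e.hom.app ⊤ σ) := by
  refine ⟨?_, fun d => ?_⟩
  · rw [h.1]
    ext x
    show Submodule.Quotient.mk _ = (0 : Cyc.secFibre L x) ↔ Submodule.Quotient.mk _ = (0 : Cyc.secFibre M x)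
    rw [← secMap_eq_zero_iff e, secMap_mk, sMap_germ]
  · obtain ⟨t, f, ht, hf, hker⟩ := h.2 d
    refine ⟨sMap e.hom (i d) t, f, ?_, ?_, hker⟩
    · refine Submodule.eq_top_iff'.2 fun v => ?_
      obtain ⟨c, hc⟩ := Submodule.mem_span_singleton.1
        (ht ▸ Submodule.mem_top : sMap e.inv (i d) v ∈ Submodule.span (X.presheaf.stalk (i d)) {t})
      refine Submodule.mem_span_singleton.2 ⟨c, ?_⟩
      rw [← map_smul, hc, sMap_comp, e.inv_hom_id, sMap_id]
    · rw [← map_smul, ← hf, sMap_germ]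

end Groth.Agent.Bivar15
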