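import Groth.Agent.Bivar15.Basic
import Groth.Agent.Bivar15.SecIso
import Groth.Agent.CycLib28.GysinMaps

/-!
# Gysin maps of zero schemes: independence of the section and cartesian squares
-/

set_option autoImplicit false
set_option linter.style.haveILetI false
set_option linter.unusedSectionVars false
set_option backward.isDefEq.respectTransparency.types false

universe u

open AlgebraicGeometry CategoryTheory CategoryTheory.Limits IsLocalRing
open Groth.Agent Groth.Agent.CycLib28 Groth.Agent.CycLib28.PB Groth.Agent.CycLim28 Groth.Agent.Coherent Groth.Agent.PicLib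

namespace Groth.Agent.Bivar15

variable {X D : Scheme.{u}}

/-- Two sections with the same zero scheme have the same divisor outside it. -/
theorem secDivFun_gysin_congr [IsLocallyNoetherian X] {δ : X → ℤ} (hδ : Cyc.IsDimFun X δ) {L : X.Modules}
    (hL : PicF.IsInvertible L) (σ τ : L.presheaf.obj (Opposite.op ⊤)) (i : D ⟶ X) [IsClosedImmersion i]
    (hσ : Cyc.IsZeroSchemeOf i L σ) (hτ : Cyc.IsZeroSchemeOf i L τ) (w w' : (ξ : X) → Cyc.secFibre L ξ)
    {η : X} (hη : η ∉ Set.range i) (x : X) :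
    Cyc.secDivFun δ L η (Cyc.gysinChoice L σ w η) x = Cyc.secDivFun δ L η (Cyc.gysinChoice L τ w' η) x := by
  have hg : ∀ (ρ : L.presheaf.obj (Opposite.op ⊤)) (v : (ξ : X) → Cyc.secFibre L ξ),
      Cyc.IsZeroSchemeOf i L ρ →
      Cyc.gysinChoice L ρ v η = Submodule.Quotient.mk (L.presheaf.germ ⊤ η trivial ρ) := fun ρ v hρ => by
    unfold Cyc.gysinChoice
    rw [if_pos]
    exact fun h ↦ hη (hρ.1.symm ▸ h)
  rw [hg σ w hσ, hg τ w' hτ]
  simp only [Cyc.secDivFun]
  split_ifs with h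
  swap
  · rfl
  obtain ⟨U, hxU, e, he⟩ := PicLib.exists_isGen hL x
  have hU : η ∈ U := h.1.mem_open U.2 hxU
  obtain ⟨a, ha⟩ := (VarietyLib.gen_germ_bijective he hxU).2 ((L.presheaf.germ ⊤ x trivial) σ)
  obtain ⟨b, hb⟩ := (VarietyLib.gen_germ_bijective he hxU).2 ((L.presheaf.germ ⊤ x trivial) τ)
  replace ha : a • L.presheaf.germ U x hxU e = (L.presheaf.germ ⊤ x trivial) σ := ha
  replace hb : b • L.presheaf.germ U x hxU e = (L.presheaf.germ ⊤ x trivial) τ := hb
  have hspec : ∀ (ρ : L.presheaf.obj (Opposite.op ⊤)) (c : X.presheaf.stalk x),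
      c • L.presheaf.germ U x hxU e = (L.presheaf.germ ⊤ x trivial) ρ →
      (L.presheaf.germ ⊤ η trivial) ρ = (X.presheaf.stalkSpecializes h.1).hom c • L.presheaf.germ U η hU e := by
    intro ρ c hc
    have h1 := congrArg (L.presheaf.stalkSpecializes h.1) hc
    rw [stalkSpecializes_smul', TopCat.Presheaf.germ_stalkSpecializes_apply,
      TopCat.Presheaf.germ_stalkSpecializes_apply] at h1
    exact h1.symm
  have hne : ∀ (ρ : L.presheaf.obj (Opposite.op ⊤)) (c : X.presheaf.stalk x), Cyc.IsZeroSchemeOf i L ρ →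
      c • L.presheaf.germ U x hxU e = (L.presheaf.germ ⊤ x trivial) ρ → Cyc.specMap x η h.1 c ≠ 0 := by
    intro ρ c hρ hc h0
    refine hη (hρ.1.symm ▸ ?_)
    change Submodule.Quotient.mk _ = 0
    rw [hspec ρ c hc, mk_eq_zero_iff_gen he]
    exact h0
  have hspan : Ideal.span {a} = Ideal.span {b} := by
    by_cases hr : x ∈ Set.range i
    · obtain ⟨d, rfl⟩ := hr
      obtain ⟨t, f, ht, hf, hker⟩ := hσ.2 d
      obtain ⟨t', f', ht', hf', hker'⟩ := hτ.2 d
      rw [span_coeff_eq he hxU ht ha.symm hf, span_coeff_eq he hxU ht' hb.symm hf', ← hker, ← hker']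
    · have hunit : ∀ (ρ : L.presheaf.obj (Opposite.op ⊤)) (c : X.presheaf.stalk x), Cyc.IsZeroSchemeOf i L ρ →
          c • L.presheaf.germ U x hxU e = (L.presheaf.germ ⊤ x trivial) ρ → IsUnit c := by
        intro ρ c hρ hc
        by_contra hu
        refine hr (hρ.1.symm ▸ ?_)
        change Submodule.Quotient.mk _ = 0
        rw [← hc, mk_eq_zero_iff_gen he]
        exact (IsLocalRing.residue_eq_zero_iff c).mpr ((IsLocalRing.mem_maximalIdeal _).mpr hu)
      rw [Ideal.span_singleton_eq_top.mpr (hunit σ a hσ ha), Ideal.span_singleton_eq_top.mpr (hunit τ b hτ hb)]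
  rw [hspec σ a ha, hspec τ b hb]
  refine (secOrdAt_gen hδ hL h.1 h.2 he hxU hU _ (hne σ a hσ ha)).trans
    (Eq.trans ?_ (secOrdAt_gen hδ hL h.1 h.2 he hxU hU _ (hne τ b hτ hb)).symm)
  obtain ⟨p, hp⟩ := Ideal.mem_span_singleton.mp (hspan ▸ Ideal.mem_span_singleton_self a)
  obtain ⟨q, hq⟩ := Ideal.mem_span_singleton.mp (hspan.symm ▸ Ideal.mem_span_singleton_self b)
  have hm := hne σ a hσ ha
  have hbne := hne τ b hτ hb
  set φ := Cyc.specMap x η h.1
  have hpq : φ (q * p - 1) = 0 := by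
    have h1 := congrArg φ hp
    rw [hq, map_mul, map_mul] at h1
    rw [map_sub, map_one, map_mul, sub_eq_zero]
    refine mul_left_cancel₀ hm ?_
    rw [mul_one]
    conv_rhs => rw [h1]
    ring
  have hu : IsUnit q := by
    have hker : q * p - 1 ∈ maximalIdeal (X.presheaf.stalk x) :=
      IsLocalRing.le_maximalIdeal (RingHom.ker_ne_top φ) (RingHom.mem_ker.mpr hpq)
    by_contra hq'
    have h1 := sub_mem (Ideal.mul_mem_right p _ ((IsLocalRing.mem_maximalIdeal _).mpr hq')) hker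
    rw [sub_sub_cancel] at h1
    exact (IsLocalRing.maximalIdeal.isMaximal _).ne_top ((Ideal.eq_top_iff_one _).mpr h1)
  show Cyc.ordAt x η h.1 (φ a) = Cyc.ordAt x η h.1 (φ b)
  rw [hq, map_mul, ordAt_mul hδ h.1 h.2 hm (hu.map φ).ne_zero, ordAt_unit hδ h.1 h.2 q hu, add_zero]

/-- Gysin cycles do not depend on the section defining the zero scheme nor on the fallback. -/
theorem gysin_congr_section [IsLocallyNoetherian X] {δ : X → ℤ} (hδ : Cyc.IsDimFun X δ) {L : X.Modules}
    (hL : PicF.IsInvertible L) (σ τ : L.presheaf.obj (Opposite.op ⊤)) (i : D ⟶ X) [IsClosedImmersion i]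
    (hσ : Cyc.IsZeroSchemeOf i L σ) (hτ : Cyc.IsZeroSchemeOf i L τ) (k : ℤ) (α : AlgebraicCycle X ℤ)
    (hα : α ∈ Cyc.Zk X δ k) (w w' : (ξ : X) → Cyc.secFibre L ξ) (hw : ∀ ξ, w ξ ≠ 0) (hw' : ∀ ξ, w' ξ ≠ 0)
    (γ γ' : AlgebraicCycle D ℤ) (hγ : ∀ d, γ d = Cyc.c1CapFun δ L ⇑α (Cyc.gysinChoice L σ w) (i d))
    (hγ' : ∀ d, γ' d = Cyc.c1CapFun δ L ⇑α (Cyc.gysinChoice L τ w') (i d)) :
    Cyc.RatEquiv (fun d => δ (i d)) (k - 1) γ γ' :=
  gysin_indep_closed hδ i hL (k - 1) α (by rwa [sub_add_cancel]) _ _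
    (fun ξ _ => gysinChoice_ne_zero L σ w hw ξ) (fun ξ _ => gysinChoice_ne_zero L τ w' hw' ξ)
    (fun _ hξ x => secDivFun_gysin_congr hδ hL σ τ i hσ hτ w w' hξ x) γ γ' hγ hγ'

/-- Rational equivalence is transported back along an isomorphism. -/
theorem ratEquiv_of_map_iso {W P : Scheme.{u}} (e : W ≅ P) [IsLocallyNoetherian W] [IsLocallyNoetherian P]
    {δP : P → ℤ} (hP : Cyc.IsDimFun P δP) (k : ℤ) (a b : AlgebraicCycle W ℤ)
    (h : Cyc.RatEquiv δP k (AlgebraicCycle.map e.hom (fun z => δP (e.hom z)) δP a)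
      (AlgebraicCycle.map e.hom (fun z => δP (e.hom z)) δP b)) :
    Cyc.RatEquiv (fun z => δP (e.hom z)) k a b := by
  have hW : Cyc.IsDimFun W (fun z => δP (e.hom z)) := isDimFun_comp_closedImmersion e.hom hP
  have h1 : Cyc.DeltaCompat e.hom (fun z => δP (e.hom z)) δP := deltaCompat_preimmersion e.hom δP
  have h2 : Cyc.DeltaCompat e.inv δP (fun z => δP (e.hom z)) := by
    have := deltaCompat_preimmersion e.inv (fun z => δP (e.hom z))
    rwa [show (fun x => δP (e.hom (e.inv x))) = δP from funext fun x => by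
      rw [← Scheme.Hom.comp_apply, e.inv_hom_id]; rfl] at this
  have h3 := map_ratEquivZero hP hW e.inv h2 k _ h
  rw [map_sub_apply] at h3
  have key : ∀ c : AlgebraicCycle W ℤ, AlgebraicCycle.map e.inv δP (fun z => δP (e.hom z))
      (AlgebraicCycle.map e.hom (fun z => δP (e.hom z)) δP c) = c := fun c => by
    rw [map_map e.hom e.inv h1 h2]
    simp only [e.hom_inv_id, AlgebraicCycle.map_id]
  rw [key a, key b] at h3
  exact h3

/-- Gysin maps commute with proper pushforward, for any cartesian square. -/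
theorem gysin_map_square {X' D' : Scheme.{u}} [IsLocallyNoetherian X] [IsLocallyNoetherian X'] {δ : X → ℤ}
    {δ' : X' → ℤ} (hX : Cyc.IsDimFun X δ) (hX' : Cyc.IsDimFun X' δ') (f : X' ⟶ X) [IsProper f]
    (hδ : Cyc.DeltaCompat f δ' δ) {L : X.Modules} (hL : PicF.IsInvertible L)
    (s : L.presheaf.obj (Opposite.op ⊤)) (i : D ⟶ X) [IsClosedImmersion i] (hD : Cyc.IsZeroSchemeOf i L s)
    {g : D' ⟶ D} {i' : D' ⟶ X'} [IsClosedImmersion i'] [QuasiCompact g] (hsq : IsPullback i' g f i)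
    (s' : ((Scheme.Modules.pullback f).obj L).presheaf.obj (Opposite.op ⊤))
    (hD' : Cyc.IsZeroSchemeOf (pullback.fst f i) ((Scheme.Modules.pullback f).obj L) s') (k : ℤ)
    (α' : AlgebraicCycle X' ℤ) (hα' : α' ∈ Cyc.Zk X' δ' (k + 1)) (w : (ξ : X) → Cyc.secFibre L ξ) (hw : ∀ ξ, w ξ ≠ 0)
    (w' : (ξ : X') → Cyc.secFibre ((Scheme.Modules.pullback f).obj L) ξ) (hw' : ∀ ξ, w' ξ ≠ 0)
    (γ : AlgebraicCycle D ℤ)
    (hγ : ∀ d, γ d = Cyc.c1CapFun δ L ⇑(AlgebraicCycle.map f δ' δ α') (Cyc.gysinChoice L s w) (i d))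
    (γ' : AlgebraicCycle D' ℤ)
    (hγ' : ∀ z, γ' z = Cyc.c1CapFun δ' ((Scheme.Modules.pullback f).obj L) ⇑α'
      (Cyc.gysinChoice ((Scheme.Modules.pullback f).obj L) s' w') (i' z)) :
    Cyc.RatEquiv (fun d => δ (i d)) k γ
      (AlgebraicCycle.map g (fun z => δ' (i' z)) (fun d => δ (i d)) γ') := by
  haveI : IsClosedImmersion (pullback.fst f i) := MorphismProperty.pullback_fst _ _ inferInstance
  let e := hsq.isoPullback
  have he : ∀ z, pullback.fst f i (e.hom z) = i' z := fun z =>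
    congrArg (fun m : D' ⟶ X' => m z) hsq.isoPullback_hom_fst
  have hδe : (fun z => δ' (i' z)) = fun z => δ' (pullback.fst f i (e.hom z)) := funext fun z => by rw [he]
  have h1 : Cyc.DeltaCompat (pullback.snd f i) (fun z => δ' (pullback.fst f i z)) (fun d => δ (i d)) :=
    deltaCompat_square (pullback.fst f i) i (pullback.snd f i) f pullback.condition.symm hδ
  have h2 := gysin_map hX hX' f hδ hL s i hD s' hD' k α' hα' w hw w' hw' γ hγ
    (AlgebraicCycle.map e.hom (fun z => δ' (pullback.fst f i (e.hom z))) (fun z => δ' (pullback.fst f i z)) γ')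
    (fun z => by
      obtain ⟨z', rfl⟩ := e.hom.homeomorph.surjective z
      show (AlgebraicCycle.map e.hom _ _ γ') (e.hom z') = _
      rw [map_closedImmersion_apply e.hom (fun z => δ' (pullback.fst f i z)) γ' z', hγ', ← he z']
      rfl)
  rw [map_map e.hom (pullback.snd f i) (deltaCompat_preimmersion e.hom (fun z => δ' (pullback.fst f i z))) h1] at h2
  simp only [hsq.isoPullback_hom_snd, e] at h2
  rw [hδe]
  exact h2

end Groth.Agent.Bivar15
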