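import Groth.Agent.Bivar15.C1
import Groth.Agent.Bivar15.GysinSq
import Groth.Agent.CycLib28.GysinFlat
import Groth.Agent.CycLib28.PB.GysinSquare
import Groth.Prelude.Def_Bivar2

/-!
# The bivariant class of the Gysin maps of a zero scheme
-/

set_option autoImplicit false
set_option linter.style.haveILetI false
set_option backward.isDefEq.respectTransparency.types false
set_option maxHeartbeats 1000000

universe u

open AlgebraicGeometry CategoryTheory CategoryTheory.Limits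
open Groth.Agent.CycLib28 Groth.Agent.CycLib28.PB Groth.Agent.CycLib28.PB.Ops Groth.Agent.CycLim28

namespace Groth.Agent.Bivar15

variable {D X : Scheme.{u}} {δD : D → ℤ} {δX : X → ℤ} {i : D ⟶ X} [IsClosedImmersion i]
  {L : X.Modules}

/-- The module of a square. -/
noncomputable abbrev sqMod (L : X.Modules) (s : Bivar.Sq i δD δX) : s.Y'.Modules :=
  (Scheme.Modules.pullback s.g).obj L

theorem isClosedImmersion_sqf (s : Bivar.Sq i δD δX) : IsClosedImmersion s.f' :=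
  MorphismProperty.of_isPullback s.isPullback.flip inferInstance

theorem gy_setup (hX : Cyc.IsSetup X δX) (hδ : Cyc.DeltaCompat i δD δX) (s : Bivar.Sq i δD δX) :
    Cyc.IsSetup s.Y' s.δY' ∧ Cyc.IsSetup s.X' s.δX' ∧ s.δX' = fun d => s.δY' (s.f' d) := by
  haveI := s.lft
  haveI := isClosedImmersion_sqf s
  haveI : LocallyOfFiniteType s.g' := MorphismProperty.of_isPullback s.isPullback inferInstance
  have hY := isSetup_of_deltaCompat s.g hX s.compatY
  refine ⟨hY, isSetup_of_deltaCompat s.g' (isSetup_of_deltaCompat i hX hδ) s.compatX,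
    GraphPull.deltaCompat_unique s.f' ?_ (deltaCompat_preimmersion s.f' s.δY')⟩
  exact deltaCompat_cancel s.isPullback.w s.compatX hδ s.compatY

theorem exists_sqSection (hL : PicF.IsInvertible L) {σ : L.presheaf.obj (Opposite.op ⊤)}
    (hσ : Cyc.IsZeroSchemeOf i L σ) (s : Bivar.Sq i δD δX) :
    ∃ τ : (sqMod L s).presheaf.obj (Opposite.op ⊤), Cyc.IsZeroSchemeOf s.f' (sqMod L s) τ := by
  obtain ⟨τ, hτ⟩ := exists_isZeroSchemeOf_pullback s.g hL σ i hσ
  refine ⟨τ, ?_⟩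
  rw [← s.isPullback.isoPullback_hom_fst]
  exact isZeroSchemeOf_iso_comp s.isPullback.isoPullback.hom _ hτ

theorem exists_gysinCl (hX : Cyc.IsSetup X δX) (hδ : Cyc.DeltaCompat i δD δX) (hL : PicF.IsInvertible L)
    {σ : L.presheaf.obj (Opposite.op ⊤)} (hσ : Cyc.IsZeroSchemeOf i L σ) (s : Bivar.Sq i δD δX) (k : ℤ) :
    ∃ F : ChowOps.CH s.Y' s.δY' k →+ ChowOps.CH s.X' s.δX' (k - 1),
      ∀ (τ : (sqMod L s).presheaf.obj (Opposite.op ⊤)), Cyc.IsZeroSchemeOf s.f' (sqMod L s) τ →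
        ∀ (α : AlgebraicCycle s.Y' ℤ) (hα : α ∈ Cyc.Zk s.Y' s.δY' k) (w : (ξ : s.Y') → Cyc.secFibre (sqMod L s) ξ),
          (∀ ξ, w ξ ≠ 0) → ∀ (γ : AlgebraicCycle s.X' ℤ) (hγ : γ ∈ Cyc.Zk s.X' s.δX' (k - 1)),
            (∀ d, γ d = Cyc.c1CapFun s.δY' (sqMod L s) ⇑α (Cyc.gysinChoice (sqMod L s) τ w) (s.f' d)) →
              F (ChowOps.cl α hα) = ChowOps.cl γ hγ := by
  obtain ⟨hY, hD, hd⟩ := gy_setup hX hδ s
  haveI := hY.1
  haveI := hD.1
  haveI := isClosedImmersion_sqf s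
  have hN : PicF.IsInvertible (sqMod L s) := PicLoc.isInvertible_pullback s.g hL
  obtain ⟨τ₀, hτ₀⟩ := exists_sqSection hL hσ s
  obtain ⟨w₀, hw₀⟩ := exists_secs hN
  have hex : ∀ a : ↥(ChowOps.zk s.Y' s.δY' k), ∃ γ : AlgebraicCycle s.X' ℤ, γ ∈ Cyc.Zk s.X' s.δX' (k - 1) ∧
      ∀ d, γ d = Cyc.c1CapFun s.δY' (sqMod L s) ⇑a.1 (Cyc.gysinChoice (sqMod L s) τ₀ w₀) (s.f' d) := fun a => by
    obtain ⟨γ, h1, h2, -⟩ := exists_gysin_cycle hY.2.2 hN τ₀ s.f' hτ₀ k a.1 a.2 w₀ hw₀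
    exact ⟨γ, by rw [hd]; exact h2, h1⟩
  choose G hG1 hG2 using hex
  let g : ↥(ChowOps.zk s.Y' s.δY' k) →+ ChowOps.CH s.X' s.δX' (k - 1) :=
    AddMonoidHom.mk' (fun a => ChowOps.cl (G a) (hG1 a)) fun a b => by
      rw [← Bivar.cl_add]
      refine Bivar.cl_congr (DFunLike.ext _ _ fun d => ?_) _ _
      show G (a + b) d = G a d + G b d
      rw [hG2, hG2, hG2, show (⇑((a + b : ↥(ChowOps.zk s.Y' s.δY' k)).1) : s.Y' → ℤ) = ⇑a.1 + ⇑b.1 from rfl,
        Bivar.c1CapFun_add]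
      rfl
  have hg : ChowOps.ratTriv s.Y' s.δY' k ≤ g.ker := fun a ha => by
    rw [AddMonoidHom.mem_ker]
    have h0 := gysin_ratEquivZero hY.2.2 hN τ₀ s.f' hτ₀ (k - 1) a.1
      (by rw [sub_add_cancel]; exact (ratTriv_iff hY.2.2 a).1 ha) w₀ hw₀ (G a) (hG2 a)
    rw [← hd] at h0
    show ChowOps.cl (G a) (hG1 a) = 0
    rw [← Bivar.cl_zero, cl_eq_iff hD.2.2]
    exact ratEquiv_zero_right h0
  refine ⟨QuotientAddGroup.lift _ g hg, fun τ hτ α hα w hw γ hγ hγc => ?_⟩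
  show g ⟨α, hα⟩ = _
  refine (cl_eq_iff hD.2.2 _ _).2 ?_
  rw [hd]
  exact gysin_congr_section hY.2.2 hN τ₀ τ s.f' hτ₀ hτ k α hα w₀ w hw₀ hw _ _ (hG2 ⟨α, hα⟩) hγc

theorem exists_isGysinClass (hX : Cyc.IsSetup X δX) (hδ : Cyc.DeltaCompat i δD δX) (hL : PicF.IsInvertible L)
    {σ : L.presheaf.obj (Opposite.op ⊤)} (hσ : Cyc.IsZeroSchemeOf i L σ) :
    ∃ c : Bivar.Cl 1 i δD δX, Bivar.IsGysinClass i L σ c := by
  choose F hF using exists_gysinCl hX hδ hL hσ
  refine ⟨{ op := F, push := ?_, pull := ?_, gysin := ?_ }, hL, hσ, hδ,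
    fun s τ hτ k α hα w hw γ hγc hγ => hF s k τ hτ α hα w hw γ hγ hγc⟩
  · intro s t h _ h' _ w₁ w₂ w₃ k α hα
    obtain ⟨hsY, hsX, hds⟩ := gy_setup hX hδ s
    obtain ⟨htY, htX, hdt⟩ := gy_setup hX hδ t
    haveI := hsY.1
    haveI := htY.1
    haveI := hsX.1
    haveI := s.lft
    haveI := t.lft
    haveI := isClosedImmersion_sqf s
    haveI := isClosedImmersion_sqf t
    have hc : Cyc.DeltaCompat h t.δY' s.δY' :=
      deltaCompat_cancel (f := 𝟙 X) (π := s.g) (π' := t.g) (f' := h) (by simpa using w₁) t.compatY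
        (Bivar.deltaCompat_id δX) s.compatY
    have hsq : IsPullback t.f' h' h s.f' :=
      IsPullback.of_bot (by rw [w₁, w₃]; exact t.isPullback) w₂.symm s.isPullback
    have hN : PicF.IsInvertible (sqMod L s) := PicLoc.isInvertible_pullback s.g hL
    have hM := PicLoc.isInvertible_pullback h hN
    have hT : PicF.IsInvertible (sqMod L t) := PicLoc.isInvertible_pullback t.g hL
    obtain ⟨τ, hτ⟩ := exists_sqSection hL hσ s
    obtain ⟨τ', hτ'⟩ := exists_isZeroSchemeOf_pullback h hN τ s.f' hτ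
    let e : (Scheme.Modules.pullback h).obj (sqMod L s) ≅ sqMod L t :=
      (Scheme.Modules.pullbackComp h s.g).app L ≪≫ (Scheme.Modules.pullbackCongr w₁).app L
    have hτt : Cyc.IsZeroSchemeOf t.f' (sqMod L t) (e.hom.app ⊤ τ') := by
      rw [← hsq.isoPullback_hom_fst]
      exact isZeroSchemeOf_iso_comp hsq.isoPullback.hom _ (isZeroSchemeOf_app_iso _ e hτ')
    obtain ⟨u, hu⟩ := exists_secs hM
    obtain ⟨v, hv⟩ := exists_secs hN
    obtain ⟨γ, hγc, hγk, -⟩ := exists_gysin_cycle htY.2.2 hT (e.hom.app ⊤ τ') t.f' hτt k α hα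
      (fun η => secMap e.hom η (u η)) (fun η => secMap_ne_zero e (hu η))
    rw [← hdt] at hγk
    obtain ⟨ζ, hζc, hζk, -⟩ := exists_gysin_cycle hsY.2.2 hN τ s.f' hτ k _ (Bivar.cycMap_mem_Zk h t.δY' s.δY' k hα) v hv
    rw [← hds] at hζk
    refine ⟨γ, hγk, hF t k _ hτt α hα _ (fun η => secMap_ne_zero e (hu η)) γ hγk hγc, ?_⟩
    rw [hF s k τ hτ _ _ v hv ζ hζk hζc]
    refine (cl_eq_iff hsX.2.2 hζk _).2 ?_
    rw [hdt, hds]
    exact gysin_map_square hsY.2.2 htY.2.2 h hc hN τ s.f' hτ hsq τ' hτ' (k - 1) α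
      (by rwa [sub_add_cancel]) v hv u hu ζ hζc γ
      (fun z => (hγc z).trans (congrFun (c1CapFun_gysin_iso htY.2.2 hM hT e τ' u hu ⇑α) (t.f' z)))
  · intro s t h _ h' _ r hr hr' w₁ w₂ w₃ k α hα
    obtain ⟨hsY, hsX, hds⟩ := gy_setup hX hδ s
    obtain ⟨htY, htX, hdt⟩ := gy_setup hX hδ t
    haveI := hsY.1
    haveI := htY.1
    haveI := hsX.1
    haveI := htX.1
    haveI := s.lft
    haveI := t.lft
    haveI := isClosedImmersion_sqf s
    haveI := isClosedImmersion_sqf t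
    haveI : LocallyOfFiniteType (h ≫ s.g) := w₁ ▸ inferInstance
    haveI := locallyOfFiniteType_of_comp h s.g
    have hc : Cyc.DeltaCompat h t.δY' s.δY' :=
      deltaCompat_cancel (f := 𝟙 X) (π := s.g) (π' := t.g) (f' := h) (by simpa using w₁) t.compatY
        (Bivar.deltaCompat_id δX) s.compatY
    have hcf := delta_of_hasRelDim h hr hc
    have hsq : IsPullback t.f' h' h s.f' :=
      IsPullback.of_bot (by rw [w₁, w₃]; exact t.isPullback) w₂.symm s.isPullback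
    haveI : LocallyOfFiniteType h' := MorphismProperty.of_isPullback hsq inferInstance
    have hc' : Cyc.DeltaCompat h' (fun z => t.δY' (t.f' z)) (fun d => s.δY' (s.f' d)) :=
      deltaCompat_square t.f' s.f' h' h hsq.w.symm hc
    have hN : PicF.IsInvertible (sqMod L s) := PicLoc.isInvertible_pullback s.g hL
    have hM := PicLoc.isInvertible_pullback h hN
    have hT : PicF.IsInvertible (sqMod L t) := PicLoc.isInvertible_pullback t.g hL
    obtain ⟨τ, hτ⟩ := exists_sqSection hL hσ s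
    obtain ⟨τ', hτ'⟩ := exists_isZeroSchemeOf_pullback h hN τ s.f' hτ
    let e : (Scheme.Modules.pullback h).obj (sqMod L s) ≅ sqMod L t :=
      (Scheme.Modules.pullbackComp h s.g).app L ≪≫ (Scheme.Modules.pullbackCongr w₁).app L
    have hτt : Cyc.IsZeroSchemeOf t.f' (sqMod L t) (e.hom.app ⊤ τ') := by
      rw [← hsq.isoPullback_hom_fst]
      exact isZeroSchemeOf_iso_comp hsq.isoPullback.hom _ (isZeroSchemeOf_app_iso _ e hτ')
    obtain ⟨u, hu⟩ := exists_secs hM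
    obtain ⟨v, hv⟩ := exists_secs hN
    obtain ⟨γ, hγc, hγk, -⟩ := exists_gysin_cycle hsY.2.2 hN τ s.f' hτ k α hα v hv
    rw [← hds] at hγk
    refine ⟨γ, hγk, hF s k τ hτ α hα v hv γ hγk hγc, fun α₁ hα₁c hα₁ => ?_⟩
    obtain ⟨β₁, hβ₁⟩ := exists_pullback_cycle h' (fun z => t.δY' (t.f' z)) (fun d => s.δY' (s.f' d)) (r : ℤ)
      (delta_of_hasRelDim h' hr' hc') γ
    have hm : β₁ ∈ Cyc.Zk t.X' t.δX' (k + r - 1) := by
      rw [hdt]
      have := PB.pullFun_mem_Zk h' (fun z => t.δY' (t.f' z)) (fun d => s.δY' (s.f' d)) (r : ℤ)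
        (k := k - 1) (hds ▸ hγk) hβ₁
      rwa [show k - 1 + (r : ℤ) = k + r - 1 by ring] at this
    refine ⟨β₁, hm, by rw [hβ₁, hdt, hds], ?_⟩
    obtain ⟨ζ, hζc, hζk, -⟩ := exists_gysin_cycle htY.2.2 hT (e.hom.app ⊤ τ') t.f' hτt (k + r) α₁ hα₁
      (fun η => secMap e.hom η (u η)) (fun η => secMap_ne_zero e (hu η))
    rw [← hdt] at hζk
    rw [hF t (k + r) _ hτt α₁ hα₁ _ (fun η => secMap_ne_zero e (hu η)) ζ hζk hζc]
    refine (cl_eq_iff htX.2.2 hζk hm).2 ?_
    rw [hdt, show k + (r : ℤ) - 1 = k - 1 + r by ring]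
    refine gysin_pullFun_square hsY.2.2 htY.2.2 h (r : ℤ) hcf hN τ s.f' hτ hsq τ' hτ' (k - 1) α
      (by rwa [sub_add_cancel]) v hv u hu ζ β₁ (fun z => ?_) ?_
    · rw [← hα₁c]
      exact (hζc z).trans (congrFun (c1CapFun_gysin_iso htY.2.2 hM hT e τ' u hu ⇑α₁) (t.f' z))
    · rw [hβ₁]
      exact congrArg _ (funext hγc)
  · intro s t g _ j _ w₁ w₂ w₃ M hMinv μ hμ ν hν k α hα
    obtain ⟨hsY, hsX, hds⟩ := gy_setup hX hδ s
    obtain ⟨htY, htX, hdt⟩ := gy_setup hX hδ t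
    haveI := hsY.1
    haveI := htY.1
    haveI := hsX.1
    haveI := htX.1
    haveI := s.lft
    haveI := t.lft
    haveI := isClosedImmersion_sqf s
    haveI := isClosedImmersion_sqf t
    have hdg : t.δY' = fun d => s.δY' (g d) :=
      GraphPull.deltaCompat_unique g
        (deltaCompat_cancel (f := 𝟙 X) (π := s.g) (π' := t.g) (f' := g) (by simpa using w₁) t.compatY
          (Bivar.deltaCompat_id δX) s.compatY)
        (deltaCompat_preimmersion g s.δY')
    have hsq : IsPullback t.f' j g s.f' :=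
      IsPullback.of_bot (by rw [w₁, w₃]; exact t.isPullback) w₂.symm s.isPullback
    have hN : PicF.IsInvertible (sqMod L s) := PicLoc.isInvertible_pullback s.g hL
    have hgN := PicLoc.isInvertible_pullback g hN
    have hT : PicF.IsInvertible (sqMod L t) := PicLoc.isInvertible_pullback t.g hL
    have hfM := PicLoc.isInvertible_pullback s.f' hMinv
    obtain ⟨τ, hτ⟩ := exists_sqSection hL hσ s
    obtain ⟨τ', hτ'⟩ := exists_isZeroSchemeOf_pullback g hN τ s.f' hτ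
    let e : (Scheme.Modules.pullback g).obj (sqMod L s) ≅ sqMod L t :=
      (Scheme.Modules.pullbackComp g s.g).app L ≪≫ (Scheme.Modules.pullbackCongr w₁).app L
    have hτt : Cyc.IsZeroSchemeOf t.f' (sqMod L t) (e.hom.app ⊤ τ') := by
      rw [← hsq.isoPullback_hom_fst]
      exact isZeroSchemeOf_iso_comp hsq.isoPullback.hom _ (isZeroSchemeOf_app_iso _ e hτ')
    have hν' : Cyc.IsZeroSchemeOf (pullback.snd g s.f') ((Scheme.Modules.pullback s.f').obj M) ν := by
      rw [← hsq.isoPullback_inv_snd]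
      exact isZeroSchemeOf_iso_comp hsq.isoPullback.inv _ hν
    obtain ⟨u, hu⟩ := exists_secs hgN
    obtain ⟨v, hv⟩ := exists_secs hN
    obtain ⟨β, hβc, hβk, -⟩ := exists_gysin_cycle hsY.2.2 hN τ s.f' hτ k α hα v hv
    rw [← hds] at hβk
    refine ⟨β, hβk, hF s k τ hτ α hα v hv β hβk hβc, fun w hw γ hγc hγ w' hw' => ?_⟩
    have hjd : t.δX' = fun z => s.δX' (j z) := by
      rw [hdt, hdg, hds]
      funext z
      show s.δY' (g (t.f' z)) = s.δY' (s.f' (j z))
      rw [← Scheme.Hom.comp_apply, hsq.w, Scheme.Hom.comp_apply]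
    obtain ⟨ζ, hζc, hζk, -⟩ := exists_gysin_cycle hsX.2.2 hfM ν j hν (k - 1) β hβk w' hw'
    rw [← hjd] at hζk
    refine ⟨ζ, hζk, hζc, ?_⟩
    obtain ⟨G, hGc, hGk, -⟩ := exists_gysin_cycle htY.2.2 hT (e.hom.app ⊤ τ') t.f' hτt (k - 1) γ hγ
      (fun η => secMap e.hom η (u η)) (fun η => secMap_ne_zero e (hu η))
    rw [← hdt] at hGk
    rw [hF t (k - 1) _ hτt γ hγ _ (fun η => secMap_ne_zero e (hu η)) G hGk hGc]
    refine (cl_eq_iff htX.2.2 hGk hζk).2 ?_
    let q := hsq.isoPullback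
    haveI : IsClosedImmersion (pullback.fst g s.f') := MorphismProperty.pullback_fst _ _ inferInstance
    haveI : IsLocallyNoetherian (pullback g s.f') := LocallyOfFiniteType.isLocallyNoetherian (pullback.fst g s.f')
    have hP : Cyc.IsDimFun (pullback g s.f') (fun z => s.δY' (g (pullback.fst g s.f' z))) :=
      isDimFun_comp_closedImmersion (pullback.fst g s.f') (isDimFun_comp_closedImmersion g hsY.2.2)
    have hqf : ∀ z, pullback.fst g s.f' (q.hom z) = t.f' z := fun z =>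
      congrArg (fun m : t.X' ⟶ t.Y' => m z) hsq.isoPullback_hom_fst
    have hqs : ∀ z, pullback.snd g s.f' (q.hom z) = j z := fun z =>
      congrArg (fun m : t.X' ⟶ s.X' => m z) hsq.isoPullback_hom_snd
    have hδq : t.δX' = fun z => s.δY' (g (pullback.fst g s.f' (q.hom z))) := by
      rw [hdt, hdg]
      exact funext fun z => by simp only [hqf]
    rw [hδq, show k - 1 - 1 = k - 2 by ring]
    refine ratEquiv_of_map_iso q hP (k - 2) G ζ ?_
    refine gysin_gysin hsY.2.2 hMinv hN μ τ g s.f' hμ hτ τ' hτ' ν hν' k α hα w hw v hv u hu w' hw' ⇑γ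
      (funext hγc) ⇑β (funext hβc) _ _ (fun z => ?_) (fun z => ?_)
    · obtain ⟨z', rfl⟩ := q.hom.homeomorph.surjective z
      show (AlgebraicCycle.map q.hom _ _ G) (q.hom z') = _
      rw [map_closedImmersion_apply q.hom (fun z => s.δY' (g (pullback.fst g s.f' z))) G z', hGc,
        congrFun (c1CapFun_gysin_iso htY.2.2 hgN hT e τ' u hu ⇑γ) (t.f' z'), hdg, ← hqf z']
      rfl
    · obtain ⟨z', rfl⟩ := q.hom.homeomorph.surjective z
      show (AlgebraicCycle.map q.hom _ _ ζ) (q.hom z') = _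
      rw [map_closedImmersion_apply q.hom (fun z => s.δY' (g (pullback.fst g s.f' z))) ζ z', hζc, hds, ← hqs z']
      rfl

end Groth.Agent.Bivar15
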