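import Groth.Agent.Bivar15.Basic
import Groth.Agent.Bivar15.SecIso
import Groth.Agent.CycLib28.GysinMaps
import Groth.Prelude.Def_Bivar2

/-!
# Proper pushforward of bivariant classes
-/

set_option autoImplicit false
set_option linter.style.haveILetI false
set_option backward.isDefEq.respectTransparency.types false
set_option maxHeartbeats 1000000

universe u

open AlgebraicGeometry CategoryTheory CategoryTheory.Limits
open Groth.Agent.CycLib28 Groth.Agent.CycLib28.PB Groth.Agent.CycLib28.PB.Ops Groth.Agent.CycLim28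

namespace Groth.Agent.Bivar15

/-- Pushforward of Chow classes of one degree. -/
noncomputable abbrev pushC {S T : Scheme.{u}} (f : S ⟶ T) [QuasiCompact f] (δS : S → ℤ) (δT : T → ℤ) (l : ℤ) :
    ChowOps.CH S δS l →+ ChowOps.CH T δT l :=
  comp₀ (push f δS δT) l l

theorem pushC_cl {S T : Scheme.{u}} (f : S ⟶ T) [IsProper f] [IsLocallyNoetherian T] {δS : S → ℤ} {δT : T → ℤ}
    (hS : Cyc.IsSetup S δS) (hT : Cyc.IsDimFun T δT) (hf : Cyc.DeltaCompat f δS δT) {l : ℤ}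
    {α : AlgebraicCycle S ℤ} (hα : α ∈ Cyc.Zk S δS l) :
    pushC f δS δT l (ChowOps.cl α hα) =
      ChowOps.cl (AlgebraicCycle.map f δS δT α) (Bivar.cycMap_mem_Zk f δS δT l hα) :=
  haveI := hS.1
  comp₀_cl _ hα _ (push_cls f hS.2.2 hT hf hα)

section

variable {X Y Z : Scheme.{u}} {δX : X → ℤ} {δY : Y → ℤ} {δZ : Z → ℤ} {f : X ⟶ Y} [IsProper f] {g : Y ⟶ Z}
  [LocallyOfFiniteType g]

theorem isSetup_sqX (hY : Cyc.IsSetup Y δY) (s : Bivar.Sq g δY δZ) : Cyc.IsSetup s.X' s.δX' :=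
  haveI := s.lft
  haveI : LocallyOfFiniteType s.g' := MorphismProperty.of_isPullback s.isPullback inferInstance
  isSetup_of_deltaCompat s.g' hY s.compatX

theorem isSetup_sqY (hZ : Cyc.IsSetup Z δZ) (s : Bivar.Sq g δY δZ) : Cyc.IsSetup s.Y' s.δY' :=
  haveI := s.lft
  isSetup_of_deltaCompat s.g hZ s.compatY

variable (f δX) in
/-- A fibre product over a square, with its dimension function. -/
structure Fib (s : Bivar.Sq g δY δZ) where
  /-- the scheme -/
  W : Scheme.{u}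
  /-- the projection to the square -/
  pr : W ⟶ s.X'
  /-- the projection to the source -/
  gW : W ⟶ X
  hp : IsPullback pr gW s.g' f
  /-- the dimension function -/
  δ : W → ℤ
  compat : Cyc.DeltaCompat gW δ δX

namespace Fib

variable {s : Bivar.Sq g δY δZ} (a : Fib δX f s)

/-- The square over the composite. -/
noncomputable abbrev sq : Bivar.Sq (f ≫ g) δX δZ :=
  ⟨s.Y', a.W, s.g, a.pr ≫ s.f', a.gW, a.hp.paste_horiz s.isPullback, s.lft, s.δY', a.δ, s.compatY, a.compat⟩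

instance isProper_pr : IsProper a.pr := MorphismProperty.of_isPullback a.hp.flip inferInstance

theorem lft_gW : LocallyOfFiniteType a.gW :=
  haveI := s.lft
  haveI : LocallyOfFiniteType s.g' := MorphismProperty.of_isPullback s.isPullback inferInstance
  MorphismProperty.of_isPullback a.hp inferInstance

theorem setup (hX : Cyc.IsSetup X δX) : Cyc.IsSetup a.W a.δ :=
  haveI := a.lft_gW
  isSetup_of_deltaCompat a.gW hX a.compat

theorem compat_pr (hfδ : Cyc.DeltaCompat f δX δY) : Cyc.DeltaCompat a.pr a.δ s.δX' :=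
  haveI := s.lft
  haveI := a.lft_gW
  haveI : LocallyOfFiniteType s.g' := MorphismProperty.of_isPullback s.isPullback inferInstance
  deltaCompat_cancel a.hp.w a.compat hfδ s.compatX

end Fib

variable (f δX) in
theorem nonempty_fib (s : Bivar.Sq g δY δZ) : Nonempty (Fib δX f s) := by
  haveI := s.lft
  haveI : LocallyOfFiniteType s.g' := MorphismProperty.of_isPullback s.isPullback inferInstance
  haveI : LocallyOfFiniteType (pullback.snd s.g' f) := MorphismProperty.pullback_snd _ _ inferInstance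
  obtain ⟨δ, hδ⟩ := exists_deltaCompat_of_locallyOfFiniteType (pullback.snd s.g' f) δX
  exact ⟨⟨_, _, _, IsPullback.of_hasPullback _ _, δ, hδ⟩⟩

/-- A chosen fibre product. -/
noncomputable def chosenFib (s : Bivar.Sq g δY δZ) : Fib δX f s := (nonempty_fib δX f s).some

variable {p : ℤ} (c : Bivar.Cl p (f ≫ g) δX δZ)

/-- `f_*(c ∩ -)` computed with a fibre product. -/
noncomputable abbrev pushOp {s : Bivar.Sq g δY δZ} (a : Fib δX f s) (k : ℤ) :
    ChowOps.CH s.Y' s.δY' k →+ ChowOps.CH s.X' s.δX' (k - p) :=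
  (pushC a.pr a.δ s.δX' (k - p)).comp (c.op a.sq k)

theorem pushOp_eq (hX : Cyc.IsSetup X δX) (hY : Cyc.IsSetup Y δY) (hfδ : Cyc.DeltaCompat f δX δY)
    {s : Bivar.Sq g δY δZ} (a b : Fib δX f s) (k : ℤ) : pushOp c a k = pushOp c b k := by
  refine AddMonoidHom.ext fun x => ?_
  obtain ⟨α, hα, rfl⟩ := Bivar.exists_rep x
  haveI := (isSetup_sqX hY s).1
  have hs := (isSetup_sqX hY s).2.2
  haveI := a.lft_gW
  haveI := b.lft_gW
  let e := a.hp.isoIsPullback _ _ b.hp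
  have he1 : e.hom ≫ b.pr = a.pr := IsPullback.isoIsPullback_hom_fst _ _ _ _
  have he2 : e.hom ≫ b.gW = a.gW := IsPullback.isoIsPullback_hom_snd _ _ _ _
  have hec : Cyc.DeltaCompat e.hom a.δ b.δ :=
    deltaCompat_cancel (f := 𝟙 X) (π := b.gW) (π' := a.gW) (f' := e.hom) (by simp [he2]) a.compat
      (Bivar.deltaCompat_id δX) b.compat
  obtain ⟨β, hβ, h1, h2⟩ := c.push b.sq a.sq (𝟙 s.Y') e.hom (Category.id_comp _)
    (by show e.hom ≫ b.pr ≫ s.f' = _; rw [← Category.assoc, he1]; exact (Category.comp_id _).symm)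
    he2 k α hα
  have h3 : c.op b.sq k (ChowOps.cl α hα) =
      ChowOps.cl (AlgebraicCycle.map e.hom a.δ b.δ β) (Bivar.cycMap_mem_Zk e.hom a.δ b.δ (k - p) hβ) := by
    rw [← h2]
    exact congrArg _ (Bivar.cl_congr (AlgebraicCycle.map_id s.δY' α).symm hα _)
  show pushC a.pr a.δ s.δX' (k - p) (c.op a.sq k _) = pushC b.pr b.δ s.δX' (k - p) (c.op b.sq k _)
  rw [h1, h3, pushC_cl a.pr (a.setup hX) hs (a.compat_pr hfδ),
    pushC_cl b.pr (b.setup hX) hs (b.compat_pr hfδ)]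
  refine Bivar.cl_congr ?_ _ _
  rw [map_map e.hom b.pr hec (b.compat_pr hfδ)]
  simp only [he1]

theorem pushOp_cl (hX : Cyc.IsSetup X δX) (hY : Cyc.IsSetup Y δY) (hfδ : Cyc.DeltaCompat f δX δY)
    {s : Bivar.Sq g δY δZ} (a : Fib δX f s) {k : ℤ} {α : AlgebraicCycle s.Y' ℤ} (hα : α ∈ Cyc.Zk s.Y' s.δY' k)
    {β : AlgebraicCycle a.W ℤ} (hβ : β ∈ Cyc.Zk a.W a.δ (k - p))
    (h : c.op a.sq k (ChowOps.cl α hα) = ChowOps.cl β hβ) :
    pushOp c (chosenFib s) k (ChowOps.cl α hα) =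
      ChowOps.cl (AlgebraicCycle.map a.pr a.δ s.δX' β) (Bivar.cycMap_mem_Zk a.pr a.δ s.δX' (k - p) hβ) := by
  haveI := (isSetup_sqX hY s).1
  rw [pushOp_eq c hX hY hfδ (chosenFib s) a k]
  show pushC a.pr a.δ s.δX' (k - p) (c.op a.sq k _) = _
  rw [h, pushC_cl a.pr (a.setup hX) (isSetup_sqX hY s).2.2 (a.compat_pr hfδ)]

theorem compat_sqX {s t : Bivar.Sq g δY δZ} (h' : t.X' ⟶ s.X') (w : h' ≫ s.g' = t.g') :
    LocallyOfFiniteType h' ∧ Cyc.DeltaCompat h' t.δX' s.δX' := by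
  haveI := s.lft
  haveI := t.lft
  haveI : LocallyOfFiniteType s.g' := MorphismProperty.of_isPullback s.isPullback inferInstance
  haveI : LocallyOfFiniteType t.g' := MorphismProperty.of_isPullback t.isPullback inferInstance
  haveI : LocallyOfFiniteType (h' ≫ s.g') := w ▸ inferInstance
  haveI := locallyOfFiniteType_of_comp h' s.g'
  exact ⟨inferInstance, deltaCompat_cancel (f := 𝟙 Y) (π := s.g') (π' := t.g') (f' := h') (by simpa using w)
    t.compatX (Bivar.deltaCompat_id δY) s.compatX⟩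

theorem exists_baseChangeFib {s t : Bivar.Sq g δY δZ} (h' : t.X' ⟶ s.X') (w : h' ≫ s.g' = t.g')
    (a : Fib δX f s) :
    ∃ (b : Fib δX f t) (v : b.W ⟶ a.W),
      IsPullback b.pr v h' a.pr ∧ v ≫ a.gW = b.gW ∧ LocallyOfFiniteType v ∧ Cyc.DeltaCompat v b.δ a.δ := by
  haveI := a.lft_gW
  haveI := (compat_sqX h' w).1
  haveI : LocallyOfFiniteType (pullback.snd h' a.pr) := MorphismProperty.pullback_snd _ _ inferInstance
  obtain ⟨δ, hδ⟩ := exists_deltaCompat_of_locallyOfFiniteType (pullback.snd h' a.pr) a.δ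
  have hp : IsPullback (pullback.fst h' a.pr) (pullback.snd h' a.pr ≫ a.gW) t.g' f := by
    rw [← w]
    exact ((IsPullback.of_hasPullback h' a.pr).flip.paste_horiz a.hp.flip).flip
  exact ⟨⟨_, _, _, hp, δ, Bivar.deltaCompat_comp _ _ δ a.δ δX hδ a.compat⟩, pullback.snd h' a.pr,
    IsPullback.of_hasPullback _ _, rfl, inferInstance, hδ⟩

theorem exists_pushCl (hX : Cyc.IsSetup X δX) (hY : Cyc.IsSetup Y δY) (hfδ : Cyc.DeltaCompat f δX δY) :
    ∃ c' : Bivar.Cl p g δY δZ, ∀ s k, c'.op s k = pushOp c (chosenFib (f := f) (δX := δX) s) k := by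
  refine ⟨{ op := fun s k => pushOp c (chosenFib (f := f) (δX := δX) s) k, push := ?_, pull := ?_, gysin := ?_ },
    fun _ _ => rfl⟩
  · intro s t h _ h' _ w₁ w₂ w₃ k α hα
    haveI := (isSetup_sqX hY s).1
    haveI := (isSetup_sqX hY t).1
    obtain ⟨-, hc'⟩ := compat_sqX h' w₃
    obtain ⟨b, v, hb, hv, -, hvc⟩ := exists_baseChangeFib h' w₃ (chosenFib (f := f) (δX := δX) s)
    haveI : IsProper v := MorphismProperty.of_isPullback hb inferInstance
    obtain ⟨β, hβ, h1, h2⟩ := c.push (chosenFib s).sq b.sq h v w₁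
      (by show v ≫ (chosenFib s).pr ≫ s.f' = (b.pr ≫ t.f') ≫ h
          rw [Category.assoc, ← w₂, ← Category.assoc, ← Category.assoc, hb.w]) hv k α hα
    refine ⟨_, Bivar.cycMap_mem_Zk b.pr b.δ t.δX' (k - p) hβ, pushOp_cl c hX hY hfδ b hα hβ h1, ?_⟩
    rw [pushOp_cl c hX hY hfδ (chosenFib s) _ (Bivar.cycMap_mem_Zk v b.δ _ (k - p) hβ) h2]
    refine Bivar.cl_congr ?_ _ _
    rw [map_map v (chosenFib s).pr hvc ((chosenFib s).compat_pr hfδ), map_map b.pr h' (b.compat_pr hfδ) hc']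
    simp only [hb.w]
  · intro s t h _ h' _ r hr hr' w₁ w₂ w₃ k α hα
    haveI := (isSetup_sqX hY s).1
    haveI := (isSetup_sqX hY t).1
    obtain ⟨hlft, hc'⟩ := compat_sqX h' w₃
    obtain ⟨b, v, hb, hv, hvl, hvc⟩ := exists_baseChangeFib h' w₃ (chosenFib (f := f) (δX := δX) s)
    haveI : Flat v := MorphismProperty.of_isPullback hb inferInstance
    have hrv : Cyc.HasRelDim v r := hasRelDim_of_isPullback hb.flip hr'
    obtain ⟨β, hβ, h1, h2⟩ := c.pull (chosenFib s).sq b.sq h v r hr hrv w₁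
      (by show v ≫ (chosenFib s).pr ≫ s.f' = (b.pr ≫ t.f') ≫ h
          rw [Category.assoc, ← w₂, ← Category.assoc, ← Category.assoc, hb.w]) hv k α hα
    refine ⟨_, Bivar.cycMap_mem_Zk (chosenFib s).pr (chosenFib s).δ s.δX' (k - p) hβ,
      pushOp_cl c hX hY hfδ (chosenFib s) hα hβ h1, fun α₁ hα₁c hα₁ => ?_⟩
    obtain ⟨β₁, hβ₁, hβ₁c, h3⟩ := h2 α₁ hα₁c hα₁
    refine ⟨_, Bivar.cycMap_mem_Zk b.pr b.δ t.δX' _ hβ₁, ?_, pushOp_cl c hX hY hfδ b hα₁ hβ₁ h3⟩
    exact (pullFun_map_square hb ((chosenFib s).setup hX) (isSetup_sqX hY s) (isSetup_sqX hY t)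
      ((chosenFib s).compat_pr hfδ) (b.compat_pr hfδ) (r : ℤ) (delta_of_hasRelDim h' hr' hc')
      (delta_of_hasRelDim v hrv hvc) (k - p) β hβ β₁ hβ₁c).symm
  · intro s t i _ j _ w₁ w₂ w₃ L hL σ hσ τ hτ k α hα
    haveI := (isSetup_sqX hY s).1
    haveI := (isSetup_sqX hY t).1
    let a := chosenFib (f := f) (δX := δX) s
    haveI := (a.setup hX).1
    have hsX := (isSetup_sqX hY s).2.2
    have hd : t.δX' = fun d => s.δX' (j d) :=
      GraphPull.deltaCompat_unique j (compat_sqX j w₃).2 (deltaCompat_preimmersion j s.δX')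
    have hL₁ := PicLoc.isInvertible_pullback s.f' hL
    have hN := PicLoc.isInvertible_pullback a.pr hL₁
    have hM := PicLoc.isInvertible_pullback (a.pr ≫ s.f') hL
    let e : (Scheme.Modules.pullback a.pr).obj ((Scheme.Modules.pullback s.f').obj L) ≅
        (Scheme.Modules.pullback (a.pr ≫ s.f')).obj L := (Scheme.Modules.pullbackComp a.pr s.f').app L
    haveI : IsClosedImmersion (pullback.fst a.pr j) := MorphismProperty.pullback_fst _ _ inferInstance
    have hp : IsPullback (pullback.snd a.pr j) (pullback.fst a.pr j ≫ a.gW) t.g' f := by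
      rw [← w₃]
      exact ((IsPullback.of_hasPullback a.pr j).paste_horiz a.hp.flip).flip
    let b : Fib δX f t := ⟨_, _, _, hp, fun z => a.δ (pullback.fst a.pr j z),
      Bivar.deltaCompat_comp _ _ _ a.δ δX (deltaCompat_preimmersion (pullback.fst a.pr j) a.δ) a.compat⟩
    obtain ⟨τN, hτN⟩ := exists_isZeroSchemeOf_pullback a.pr hL₁ τ j hτ
    have hτM := isZeroSchemeOf_app_iso (pullback.fst a.pr j) e hτN
    obtain ⟨β, hβ, h1, h2⟩ := c.gysin a.sq b.sq i (pullback.fst a.pr j) w₁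
      (by show pullback.fst a.pr j ≫ a.pr ≫ s.f' = (pullback.snd a.pr j ≫ t.f') ≫ i
          rw [Category.assoc, ← w₂, ← Category.assoc, ← Category.assoc, pullback.condition]) rfl
      L hL σ hσ (e.hom.app ⊤ τN) hτM k α hα
    refine ⟨_, Bivar.cycMap_mem_Zk a.pr a.δ s.δX' (k - p) hβ, pushOp_cl c hX hY hfδ a hα hβ h1,
      fun w hw γ hγc hγ w' hw' => ?_⟩
    obtain ⟨u, hu⟩ := exists_secs hN
    obtain ⟨ζ₀, hζ₀, hζ₀c, h3⟩ := h2 w hw γ hγc hγ (fun η => secMap e.hom η (u η))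
      (fun η => secMap_ne_zero e (hu η))
    obtain ⟨ζ, hζc, hζk, -⟩ := exists_gysin_cycle hsX hL₁ τ j hτ (k - p)
      (AlgebraicCycle.map a.pr a.δ s.δX' β) (Bivar.cycMap_mem_Zk a.pr a.δ s.δX' (k - p) hβ) w' hw'
    rw [← hd, show k - p - 1 = k - 1 - p by ring] at hζk
    refine ⟨ζ, hζk, hζc, ?_⟩
    rw [pushOp_cl c hX hY hfδ b hγ hζ₀ h3]
    refine (cl_eq_iff (isSetup_sqX hY t).2.2 _ hζk).2 (ratEquiv_symm (isSetup_sqX hY t).2.2 ?_)
    rw [hd]
    exact gysin_map hsX (a.setup hX).2.2 a.pr (a.compat_pr hfδ) hL₁ τ j hτ τN hτN (k - 1 - p) β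
      (by rwa [show k - 1 - p + 1 = k - p by ring]) w' hw' u hu ζ hζc ζ₀
      (fun z => (hζ₀c z).trans (congrFun (c1CapFun_gysin_iso (a.setup hX).2.2 hN hM e τN u hu ⇑β)
        (pullback.fst a.pr j z)))

theorem exists_isProperPushClass (hX : Cyc.IsSetup X δX) (hY : Cyc.IsSetup Y δY)
    (hfδ : Cyc.DeltaCompat f δX δY) :
    ∃ c' : Bivar.Cl p g δY δZ, Bivar.IsProperPushClass f g c c' := by
  obtain ⟨c', hc'⟩ := exists_pushCl c hX hY hfδ
  refine ⟨c', inferInstance, hfδ, fun s X' f' _ gX hp δ' hδ' k α hα β hβ h => ?_⟩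
  rw [hc']
  exact pushOp_cl c hX hY hfδ (⟨X', f', gX, hp, δ', hδ'⟩ : Fib δX f s) hα hβ h

end

end Groth.Agent.Bivar15
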