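import Groth.Agent.Bivar15.C1
import Groth.Prelude.Def_Bivar2

/-!
# The zero section cuts out the whole scheme
-/

set_option autoImplicit false
set_option backward.isDefEq.respectTransparency.types false

universe u

open AlgebraicGeometry CategoryTheory

namespace Groth.Agent.Bivar15

variable {X : Scheme.{u}} {L : X.Modules}

theorem germ_zero (x : X) : (L.presheaf.germ ⊤ x trivial) (0 : L.presheaf.obj (Opposite.op ⊤)) = 0 :=
  map_zero (L.presheaf.germ ⊤ x trivial).hom

theorem isZeroSchemeOf_zero (hL : PicF.IsInvertible L) :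
    Cyc.IsZeroSchemeOf (𝟙 X) L (0 : L.presheaf.obj (Opposite.op ⊤)) := by
  refine ⟨?_, fun d => ?_⟩
  · ext x
    refine iff_of_true ⟨x, rfl⟩ ?_
    show Submodule.Quotient.mk _ = (0 : Cyc.secFibre L x)
    rw [germ_zero]
    rfl
  · obtain ⟨g, hg⟩ := CycLib28.exists_gen_span hL ((𝟙 X : X ⟶ X) d)
    refine ⟨g, 0, hg, by rw [germ_zero, zero_smul], ?_⟩
    rw [Ideal.span_singleton_eq_bot.2 rfl, ← RingHom.injective_iff_ker_eq_bot]
    haveI : IsIso ((𝟙 X : X ⟶ X).stalkMap d) := inferInstance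
    exact (ConcreteCategory.bijective_of_isIso ((𝟙 X : X ⟶ X).stalkMap d)).1

theorem gysinChoice_zero (w : (ξ : X) → Cyc.secFibre L ξ) :
    Cyc.gysinChoice L (0 : L.presheaf.obj (Opposite.op ⊤)) w = w := by
  funext ξ
  unfold Cyc.gysinChoice
  rw [if_neg (not_not.2 (by rw [germ_zero]; rfl))]

end Groth.Agent.Bivar15
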